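import Mathlib.GroupTheory.Index
import Mathlib.GroupTheory.PGroup
import Mathlib.GroupTheory.QuotientGroup.Basic
import Mathlib.Algebra.BigOperators.Group.Finset.Basic
import Mathlib.Algebra.Group.Action.Defs

/-!
Groups with a central involution `z` through which all commutators and squares factor, non-degenerately
(extraspecial 2-groups, allowing the group of order two), acted on by groups of odd order.
-/

set_option autoImplicit false

namespace CfsgLib.SpinExt

universe u

variable {E : Type u} [Group E]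

/-- All commutators and squares lie in `{1, z}`, and the centre is `{1, z}`. -/
structure IsSympl (z : E) : Prop where
  ne : z ≠ 1
  sq : z * z = 1
  central : ∀ x, z * x = x * z
  comm : ∀ x y : E, x * y = y * x ∨ x * y = y * x * z
  nondeg : ∀ x : E, (∀ y, x * y = y * x) → x = 1 ∨ x = z
  square : ∀ x : E, x * x = 1 ∨ x * x = z

namespace IsSympl

variable {z : E} (h : IsSympl z)

include h

theorem inv_z : z⁻¹ = z := inv_eq_of_mul_eq_one_right h.sq

theorem mem_zpowers {x : E} : x ∈ Subgroup.zpowers z ↔ x = 1 ∨ x = z := by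
  refine ⟨?_, ?_⟩
  · rintro ⟨n, rfl⟩
    have h2 : z ^ (2 : ℤ) = 1 := by rw [zpow_two]; exact h.sq
    rcases Int.even_or_odd n with ⟨k, hk⟩ | ⟨k, hk⟩
    · left
      rw [hk, ← two_mul]
      exact (zpow_mul z 2 k).trans (by rw [h2, one_zpow])
    · right
      rw [hk]
      show z ^ (2 * k + 1) = z
      rw [zpow_add, zpow_mul, h2, one_zpow, zpow_one, one_mul]
  · rintro (rfl | rfl)
    · exact one_mem _
    · exact Subgroup.mem_zpowers _

theorem card_zpowers : Nat.card (Subgroup.zpowers z) = 2 := by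
  rw [Nat.card_zpowers]
  refine orderOf_eq_prime (p := 2) ?_ h.ne
  rw [pow_two, h.sq]

theorem zpowers_le {A : Subgroup E} (hA : z ∈ A) : Subgroup.zpowers z ≤ A :=
  Subgroup.zpowers_le.mpr hA

theorem mul_z_mul_z (x : E) : x * z * z = x := by rw [mul_assoc, h.sq, mul_one]

theorem conj_eq (x y : E) : y * x * y⁻¹ = x ∨ y * x * y⁻¹ = x * z := by
  rcases h.comm y x with e | e
  · left; rw [e, mul_inv_cancel_right]
  · right
    rw [e, mul_assoc x y z, ← h.central y, ← mul_assoc x z y, mul_inv_cancel_right]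

theorem conj_ne {x y : E} (hxy : x * y ≠ y * x) : y * x * y⁻¹ = x * z := by
  rcases h.conj_eq x y with e | e
  · exact absurd (eq_mul_inv_iff_mul_eq.mp e.symm) (fun e' => hxy e')
  · exact e

theorem normal_of_mem {A : Subgroup E} (hA : z ∈ A) : A.Normal := by
  refine ⟨fun x hx y => ?_⟩
  rcases h.conj_eq x y with e | e <;> rw [e]
  · exact hx
  · exact mul_mem hx hA

theorem mul_mem_centralizer {a x y : E} (hx : x * a ≠ a * x) (hy : y * a ≠ a * y) :
    x * y * a = a * (x * y) := by
  have ex := (h.comm x a).resolve_left hx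
  have ey := (h.comm y a).resolve_left hy
  calc x * y * a = x * (y * a) := mul_assoc _ _ _
    _ = x * a * y * z := by rw [ey]; group
    _ = a * x * (z * y) * z := by rw [ex]; group
    _ = a * x * y * (z * z) := by rw [h.central y]; group
    _ = a * (x * y) := by rw [h.sq, mul_one, mul_assoc]

variable [Finite E]

omit h [Finite E] in
theorem mem_inf_centralizer {A B : Subgroup E} {x : E} :
    x ∈ A ⊓ Subgroup.centralizer (B : Set E) ↔ x ∈ A ∧ ∀ b ∈ B, b * x = x * b := by
  simp only [Subgroup.mem_inf, Subgroup.mem_centralizer_iff, SetLike.mem_coe]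

theorem card_pairing_le (A : Subgroup E) : ∀ B : Subgroup E,
    Nat.card A * Nat.card ↥(B ⊓ Subgroup.centralizer (A : Set E)) ≤
      Nat.card B * Nat.card ↥(A ⊓ Subgroup.centralizer (B : Set E)) := by
  classical
  intro B
  induction hn : Nat.card B using Nat.strong_induction_on generalizing B with
  | _ n ih => ?_
  subst hn
  by_cases hB : B ≤ Subgroup.centralizer (A : Set E)
  · rw [inf_eq_left.mpr hB, inf_eq_left.mpr (Subgroup.le_centralizer_iff.mp hB), mul_comm]
  obtain ⟨b, hbB, hb⟩ := SetLike.not_le_iff_exists.mp hB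
  rw [Subgroup.mem_centralizer_iff] at hb
  push Not at hb
  obtain ⟨a, haA, hab⟩ := hb
  set B' := B ⊓ Subgroup.centralizer ({a} : Set E) with hB'
  have hb' : b ∉ B' := fun hm => by
    have := Subgroup.mem_centralizer_iff.mp (Subgroup.mem_inf.mp hm).2 a (Set.mem_singleton a)
    exact hab this
  have hcover : ∀ x ∈ B, x ∈ B' ∨ x * b ∈ B' := by
    intro x hx
    by_cases hxa : x * a = a * x
    · exact Or.inl (Subgroup.mem_inf.mpr ⟨hx, Subgroup.mem_centralizer_iff.mpr
        fun c hc => by rw [Set.mem_singleton_iff.mp hc, hxa]⟩)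
    · refine Or.inr (Subgroup.mem_inf.mpr ⟨mul_mem hx hbB, Subgroup.mem_centralizer_iff.mpr
        fun c hc => ?_⟩)
      rw [Set.mem_singleton_iff.mp hc]
      exact (h.mul_mem_centralizer hxa (fun e => hab e.symm)).symm
  have hlt : Nat.card B' < Nat.card B := by
    refine lt_of_le_of_ne (Subgroup.card_le_of_le inf_le_left) fun e => hb' ?_
    rw [Subgroup.eq_of_le_of_card_ge (H := B') (K := B) inf_le_left e.ge]
    exact hbB
  have hcard : 2 * Nat.card B' ≤ Nat.card B := by
    obtain ⟨m, hm⟩ := Subgroup.card_dvd_of_le (inf_le_left : B' ≤ B)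
    rcases Nat.lt_or_ge m 2 with hm2 | hm2
    · interval_cases m
      · rw [mul_zero] at hm; exact absurd hm Nat.card_pos.ne'
      · rw [mul_one] at hm; exact absurd hm hlt.ne'
    · rw [hm, mul_comm]; exact Nat.mul_le_mul_left _ hm2
  have hih := ih _ hlt B' rfl
  have hle1 : Nat.card ↥(B ⊓ Subgroup.centralizer (A : Set E)) =
      Nat.card ↥(B' ⊓ Subgroup.centralizer (A : Set E)) := by
    congr 2
    refine le_antisymm (fun x hx => ?_) (inf_le_inf_right _ inf_le_left)
    obtain ⟨h1, h2⟩ := mem_inf_centralizer.mp hx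
    exact mem_inf_centralizer.mpr ⟨Subgroup.mem_inf.mpr ⟨h1, Subgroup.mem_centralizer_iff.mpr
      fun c hc => by rw [Set.mem_singleton_iff.mp hc]; exact h2 a haA⟩, h2⟩
  set S := A ⊓ Subgroup.centralizer (B' : Set E) with hS
  set T := A ⊓ Subgroup.centralizer (B : Set E) with hT
  have hT' : T = S ⊓ Subgroup.centralizer ({b} : Set E) := by
    ext x
    constructor
    · intro hx
      obtain ⟨h1, h2⟩ := mem_inf_centralizer.mp hx
      exact Subgroup.mem_inf.mpr ⟨mem_inf_centralizer.mpr
        ⟨h1, fun c hc => h2 c (Subgroup.mem_inf.mp hc).1⟩,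
        Subgroup.mem_centralizer_iff.mpr fun c hc => by
          rw [Set.mem_singleton_iff.mp hc]; exact h2 b hbB⟩
    · intro hx
      obtain ⟨h1, h3⟩ := Subgroup.mem_inf.mp hx
      obtain ⟨h1, h2⟩ := mem_inf_centralizer.mp h1
      have h4 := Subgroup.mem_centralizer_iff.mp h3 b (Set.mem_singleton b)
      refine mem_inf_centralizer.mpr ⟨h1, fun c hc => ?_⟩
      rcases hcover c hc with hc' | hc'
      · exact h2 c hc'
      · have := h2 _ hc'
        rw [mul_assoc, h4, ← mul_assoc, ← mul_assoc] at this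
        exact mul_right_cancel this
  have hST : Nat.card S ≤ 2 * Nat.card T := by
    by_cases hSb : ∀ s ∈ S, s * b = b * s
    · have : T = S := by
        rw [hT']
        exact inf_eq_left.mpr fun s hs => Subgroup.mem_centralizer_iff.mpr fun c hc => by
          rw [Set.mem_singleton_iff.mp hc, hSb s hs]
      rw [this]; omega
    push Not at hSb
    obtain ⟨s₀, hs₀, hs₀b⟩ := hSb
    let f : S → T × Bool := fun s =>
      if hs : (s : E) * b = b * s then
        (⟨s, by rw [hT']; exact Subgroup.mem_inf.mpr ⟨s.2, Subgroup.mem_centralizer_iff.mpr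
          fun c hc => by rw [Set.mem_singleton_iff.mp hc, hs]⟩⟩, true)
      else
        (⟨(s : E) * s₀, by
          rw [hT']
          exact Subgroup.mem_inf.mpr ⟨mul_mem s.2 hs₀, Subgroup.mem_centralizer_iff.mpr fun c hc => by
            rw [Set.mem_singleton_iff.mp hc]
            exact (h.mul_mem_centralizer hs hs₀b).symm⟩⟩, false)
    have hf : Function.Injective f := by
      intro s s' e
      simp only [f] at e
      split_ifs at e with h1 h2 h2 <;> simp at e
      · exact e
      · exact e
    calc Nat.card S ≤ Nat.card (T × Bool) := Nat.card_le_card_of_injective f hf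
      _ = 2 * Nat.card T := by rw [Nat.card_prod, Nat.card_eq_fintype_card (α := Bool)]; simp [mul_comm]
  rw [hle1]
  calc Nat.card A * Nat.card ↥(B' ⊓ Subgroup.centralizer (A : Set E))
      ≤ Nat.card B' * Nat.card S := hih
    _ ≤ Nat.card B' * (2 * Nat.card T) := Nat.mul_le_mul_left _ hST
    _ = 2 * Nat.card B' * Nat.card T := by ring
    _ ≤ Nat.card B * Nat.card T := Nat.mul_le_mul_right _ hcard

theorem card_pairing (A B : Subgroup E) :
    Nat.card A * Nat.card ↥(B ⊓ Subgroup.centralizer (A : Set E)) =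
      Nat.card B * Nat.card ↥(A ⊓ Subgroup.centralizer (B : Set E)) :=
  le_antisymm (h.card_pairing_le A B) (h.card_pairing_le B A)

theorem card_mul_card_centralizer {A : Subgroup E} (hA : z ∈ A) :
    Nat.card A * Nat.card ↥(Subgroup.centralizer (A : Set E)) = 2 * Nat.card E := by
  have h1 := h.card_pairing A ⊤
  have h2 : A ⊓ Subgroup.centralizer ((⊤ : Subgroup E) : Set E) = Subgroup.zpowers z := by
    ext x
    rw [mem_inf_centralizer, h.mem_zpowers]
    refine ⟨fun hx => h.nondeg x fun y => (hx.2 y (Subgroup.mem_top y)).symm, ?_⟩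
    rintro (rfl | rfl)
    · exact ⟨one_mem _, fun y _ => by rw [mul_one, one_mul]⟩
    · exact ⟨hA, fun y _ => (h.central y).symm⟩
  rw [top_inf_eq, h2, h.card_zpowers, Subgroup.card_top] at h1
  rw [h1, mul_comm]

theorem centralizer_centralizer {A : Subgroup E} (hA : z ∈ A) :
    Subgroup.centralizer ((Subgroup.centralizer (A : Set E) : Subgroup E) : Set E) = A := by
  have hzC : z ∈ Subgroup.centralizer (A : Set E) :=
    Subgroup.mem_centralizer_iff.mpr fun x _ => (h.central x).symm
  have h1 := h.card_mul_card_centralizer hA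
  have h2 := h.card_mul_card_centralizer hzC
  refine (Subgroup.eq_of_le_of_card_ge (Subgroup.le_centralizer_iff.mp le_rfl) ?_).symm
  rw [mul_comm] at h1
  exact (Nat.eq_of_mul_eq_mul_left Nat.card_pos (h2.trans h1.symm)).le

theorem sup_centralizer_eq_top {A : Subgroup E} (hA : z ∈ A)
    (hnd : A ⊓ Subgroup.centralizer (A : Set E) = Subgroup.zpowers z) :
    ∀ e : E, ∃ a ∈ A, ∃ c ∈ Subgroup.centralizer (A : Set E), e = a * c := by
  classical
  intro e
  set C := Subgroup.centralizer (A : Set E) with hC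
  haveI := h.normal_of_mem hA
  have hzC : z ∈ C := Subgroup.mem_centralizer_iff.mpr fun x _ => (h.central x).symm
  let f : C →* E ⧸ A := (QuotientGroup.mk' A).comp C.subtype
  have hker : f.ker = (Subgroup.zpowers z).subgroupOf C := by
    ext c
    rw [MonoidHom.mem_ker, Subgroup.mem_subgroupOf, ← hnd, Subgroup.mem_inf]
    simp [f, QuotientGroup.eq_one_iff, c.2]
  have hcard : Nat.card f.range = Nat.card (E ⧸ A) := by
    have h1 := Subgroup.card_mul_index f.ker
    rw [Subgroup.index_ker, hker] at h1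
    have h2 : Nat.card ((Subgroup.zpowers z).subgroupOf C) = 2 := by
      rw [Nat.card_congr (Subgroup.subgroupOfEquivOfLe (h.zpowers_le hzC)).toEquiv, h.card_zpowers]
    rw [h2] at h1
    have h3 := h.card_mul_card_centralizer hA
    have h4 : Nat.card E = Nat.card (E ⧸ A) * Nat.card A := Subgroup.card_eq_card_quotient_mul_card_subgroup A
    rw [h4, ← h1] at h3
    have h5 : Nat.card A * Nat.card f.range = Nat.card A * Nat.card (E ⧸ A) := by
      calc Nat.card A * Nat.card f.range = (Nat.card A * (2 * Nat.card f.range)) / 2 := by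
            rw [mul_left_comm, Nat.mul_div_cancel_left _ two_pos]
        _ = (2 * (Nat.card (E ⧸ A) * Nat.card A)) / 2 := by rw [h3]
        _ = Nat.card A * Nat.card (E ⧸ A) := by rw [Nat.mul_div_cancel_left _ two_pos, mul_comm]
    exact Nat.eq_of_mul_eq_mul_left Nat.card_pos h5
  have htop : f.range = ⊤ := Subgroup.eq_top_of_card_eq _ hcard
  obtain ⟨c, hc⟩ := (htop.ge (Subgroup.mem_top ((e : E ⧸ A))) : (e : E ⧸ A) ∈ f.range)
  refine ⟨e * (c : E)⁻¹, ?_, c, c.2, by group⟩
  rw [← QuotientGroup.eq_one_iff, QuotientGroup.mk_mul, QuotientGroup.mk_inv]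
  rw [mul_inv_eq_one]
  exact hc.symm

end IsSympl

/-- An odd group of operators with fixed points exactly `{1, t}` on an abelian group of exponent two
has a complement of `{1, t}`, the kernel of the product of all operators. -/
theorem exists_complement {M : Type u} [CommGroup M] [Finite M] {K : Type*} [Group K] [Finite K]
    (b : K →* MulAut M) (hodd : Odd (Nat.card K)) (hexp : ∀ m : M, m * m = 1) (t : M) (ht : t ≠ 1)
    (hfix : ∀ m, (∀ k, b k m = m) ↔ m = 1 ∨ m = t) :
    ∃ M₀ : Subgroup M, t ∉ M₀ ∧ (∀ m, m ∈ M₀ ∨ m * t ∈ M₀) ∧ (∀ k, ∀ m ∈ M₀, b k m ∈ M₀) ∧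
      ∀ M₁ : Subgroup M, t ∉ M₁ → (∀ k, ∀ m ∈ M₁, b k m ∈ M₁) → M₁ ≤ M₀ := by
  classical
  haveI := Fintype.ofFinite K
  let f : M →* M :=
    { toFun := fun m => ∏ k, b k m
      map_one' := by simp
      map_mul' := fun x y => by simp [Finset.prod_mul_distrib] }
  have hb : ∀ (l : K) m, b l (f m) = f m := fun l m => by
    show b l (∏ k, b k m) = ∏ k, b k m
    rw [map_prod]
    exact Fintype.prod_equiv (Equiv.mulLeft l) _ _ fun k => by
      rw [Equiv.coe_mulLeft, map_mul, MulAut.mul_apply]
  have hfm : ∀ m, f m = 1 ∨ f m = t := fun m => (hfix _).mp fun k => hb k m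
  have hft : f t = t := by
    show ∏ k, b k t = t
    rw [Finset.prod_congr rfl fun k _ => (hfix t).mpr (Or.inr rfl) k, Finset.prod_const,
      Finset.card_univ, ← Nat.card_eq_fintype_card]
    obtain ⟨j, hj⟩ := hodd
    rw [hj, pow_succ, pow_mul, pow_two, hexp, one_pow, one_mul]
  have hfk : ∀ k m, f (b k m) = f m := fun k m => by
    show ∏ l, b l (b k m) = ∏ l, b l m
    exact Fintype.prod_equiv (Equiv.mulRight k) _ _ fun l => by
      rw [Equiv.coe_mulRight, map_mul, MulAut.mul_apply]
  refine ⟨f.ker, fun hm => ht (hft.symm.trans (MonoidHom.mem_ker.mp hm)), fun m => ?_, ?_, ?_⟩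
  · rcases hfm m with e | e
    · exact Or.inl e
    · refine Or.inr ?_
      rw [MonoidHom.mem_ker, map_mul, e, hft, hexp]
  · intro k m hm
    rw [MonoidHom.mem_ker] at hm ⊢
    rw [hfk, hm]
  · intro M₁ ht₁ hM₁ m hm
    rw [MonoidHom.mem_ker]
    refine (hfm m).resolve_right fun e => ht₁ ?_
    rw [← e]
    exact M₁.prod_mem fun k _ => hM₁ k m hm

/-- Operators of odd order: a point fixed modulo an invariant exponent-two set is a fixed point
times an element of that set. -/
theorem exists_fixed_of_fixed_mod {X : Type u} [Group X] {K : Type*} [Group K] [Finite K]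
    (b : K →* MulAut X) (hodd : Odd (Nat.card K)) (N : Subgroup X)
    (hNc : ∀ m ∈ N, ∀ n ∈ N, m * n = n * m) (hexp : ∀ m ∈ N, m * m = 1)
    (hN : ∀ k, ∀ m ∈ N, b k m ∈ N) (x : X) (hx : ∀ k, x⁻¹ * b k x ∈ N) :
    ∃ n ∈ N, ∀ k, b k (x * n) = x * n := by
  classical
  haveI := Fintype.ofFinite K
  letI : CommGroup N := { (inferInstance : Group N) with
    mul_comm := fun m n => Subtype.ext (hNc m m.2 n n.2) }
  let c : K → N := fun k => ⟨x⁻¹ * b k x, hx k⟩
  let act : K → N →* N := fun k =>
    { toFun := fun m => ⟨b k (m : X), hN k m m.2⟩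
      map_one' := Subtype.ext (map_one (b k))
      map_mul' := fun m n => Subtype.ext (map_mul (b k) (m : X) (n : X)) }
  have hcoc : ∀ k l, c k * act k (c l) = c (k * l) := fun k l => Subtype.ext <| by
    show x⁻¹ * b k x * b k (x⁻¹ * b l x) = x⁻¹ * b (k * l) x
    rw [map_mul (b k), map_inv, map_mul b, MulAut.mul_apply]
    group
  refine ⟨(∏ l, c l : N), SetLike.coe_mem _, fun k => ?_⟩
  have h1 : c k ^ Nat.card K * act k (∏ l, c l) = ∏ l, c l := by
    rw [map_prod, Nat.card_eq_fintype_card, ← Finset.card_univ, ← Finset.prod_const,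
      ← Finset.prod_mul_distrib]
    exact Fintype.prod_equiv (Equiv.mulLeft k) _ _ fun l => hcoc k l
  have h2 : c k ^ Nat.card K = c k := by
    obtain ⟨j, hj⟩ := hodd
    have hc2 : c k * c k = 1 := Subtype.ext (hexp _ (c k).2)
    rw [hj, pow_succ, pow_mul, pow_two, hc2, one_pow, one_mul]
  rw [h2] at h1
  have h3 := congrArg Subtype.val h1
  rw [map_mul]
  calc b k x * b k ((∏ l, c l : N) : X)
      = x * ((c k : X) * (act k (∏ l, c l) : X)) := by
        show _ = x * (x⁻¹ * b k x * b k ((∏ l, c l : N) : X))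
        group
    _ = x * ((∏ l, c l : N) : X) := congrArg (x * ·) h3

end CfsgLib.SpinExt
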