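import Cfsg.Agent.Lib.LocalEven.SpinExt.Ops
import Mathlib.GroupTheory.IndexNormal
import Mathlib.FieldTheory.IsAlgClosed.Basic
import Mathlib.Analysis.Complex.Polynomial.Basic

/-!
The action swapping two blocks: either a non-degenerate block and its centraliser, or two transversal
abelian blocks.
-/

set_option autoImplicit false
set_option linter.all false

namespace CfsgLib.SpinExt

open Module
open scoped TensorProduct

universe u

/-- A homomorphism given on a subgroup of index two and an element outside it. -/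
theorem exists_hom_index_two {P U : Type*} [Group P] [Group U] (P₀ : Subgroup P) (s : P) (hs : s ∉ P₀)
    (hidx : P₀.index = 2) (M₀ : P₀ →* U) (S : U) (hn : ∀ p ∈ P₀, s * p * s⁻¹ ∈ P₀)
    (hs2 : s * s ∈ P₀) (hconj : ∀ p : P₀, S * M₀ p = M₀ ⟨_, hn p p.2⟩ * S)
    (hsq : S * S = M₀ ⟨_, hs2⟩) : ∃ M : P →* U, (∀ p : P₀, M p = M₀ p) ∧ M s = S := by
  classical
  have hnin : ∀ p, p ∉ P₀ → p * s⁻¹ ∈ P₀ := fun p hp => by
    rw [Subgroup.mul_mem_iff_of_index_two hidx]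
    exact iff_of_false hp fun h => hs (inv_mem_iff.mp h)
  let m : P → U := fun p => if hp : p ∈ P₀ then M₀ ⟨p, hp⟩ else M₀ ⟨_, hnin p hp⟩ * S
  have hm1 : ∀ p (hp : p ∈ P₀), m p = M₀ ⟨p, hp⟩ := fun p hp => dif_pos hp
  have hm2 : ∀ p (hp : p ∉ P₀), m p = M₀ ⟨_, hnin p hp⟩ * S := fun p hp => dif_neg hp
  refine ⟨MonoidHom.mk' m fun p q => ?_, fun p => hm1 p p.2, ?_⟩
  · by_cases hp : p ∈ P₀ <;> by_cases hq : q ∈ P₀
    · rw [hm1 p hp, hm1 q hq, hm1 _ (mul_mem hp hq), ← map_mul]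
      rfl
    · have hpq : p * q ∉ P₀ := fun h => hq ((Subgroup.mul_mem_cancel_left P₀ hp).mp h)
      rw [hm1 p hp, hm2 q hq, hm2 _ hpq, ← mul_assoc, ← map_mul]
      congr 2
      exact Subtype.ext (mul_assoc _ _ _)
    · have hpq : p * q ∉ P₀ := fun h => hp ((Subgroup.mul_mem_cancel_right P₀ hq).mp h)
      rw [hm2 p hp, hm1 q hq, hm2 _ hpq, mul_assoc (M₀ _) S, hconj ⟨q, hq⟩, ← mul_assoc, ← map_mul]
      congr 2
      exact Subtype.ext (show p * q * s⁻¹ = p * s⁻¹ * (s * q * s⁻¹) by group)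
    · have hpq : p * q ∈ P₀ := (Subgroup.mul_mem_iff_of_index_two hidx).mpr (iff_of_false hp hq)
      rw [hm2 p hp, hm2 q hq, hm1 _ hpq, mul_assoc (M₀ _) S, ← mul_assoc S, hconj, mul_assoc _ S S, hsq,
        ← map_mul, ← map_mul]
      congr 1
      exact Subtype.ext (show p * q = p * s⁻¹ * (s * (q * s⁻¹) * s⁻¹ * (s * s)) by group)
  · rw [MonoidHom.mk'_apply, hm2 s hs, show (⟨_, hnin s hs⟩ : P₀) = 1 from Subtype.ext (mul_inv_cancel s),
      map_one, one_mul]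

variable {E : Type u} [Group E] [Finite E] {z : E} {P : Type u} [Group P] [Finite P] {a : P →* MulAut E}
  {K : Type u} [Group K] [Finite K] {b : K →* MulAut E}

/-- A non-degenerate block interchanged with its centraliser. -/
theorem good_of_swap_orth (h : Hyp z a b) (hb : Below.{u} (Nat.card E)) (A : Subgroup E) (hzA : z ∈ A)
    (hne : A ≠ ⊤) (hnd : A ⊓ Subgroup.centralizer (A : Set E) = Subgroup.zpowers z)
    (hKA : ∀ k, ∀ e ∈ A, b k e ∈ A) (P₀ : Subgroup P) (hidx : P₀.index = 2)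
    (hPA : ∀ p ∈ P₀, ∀ e ∈ A, a p e ∈ A) (s : P) (hs : s ∉ P₀)
    (hsA : ∀ e ∈ A, a s e ∈ Subgroup.centralizer (A : Set E))
    (hsB : ∀ e ∈ Subgroup.centralizer (A : Set E), a s e ∈ A) : Good z a := by
  have hsy := h.sym
  set B := Subgroup.centralizer (A : Set E) with hB
  have hzB : z ∈ B := Subgroup.mem_centralizer_iff.mpr fun x _ => (hsy.central x).symm
  have hA1 : Nat.card A < Nat.card E := lt_of_le_of_ne (Subgroup.card_le_card_group A)
    fun e => hne (Subgroup.eq_top_of_card_eq A e)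
  haveI := Subgroup.normal_of_index_eq_two hidx
  have hn : ∀ p ∈ P₀, s * p * s⁻¹ ∈ P₀ := fun p hp => Subgroup.Normal.conj_mem inferInstance p hp s
  have hn' : ∀ p : P₀, s⁻¹ * (p : P) * s ∈ P₀ := fun p => by
    have := Subgroup.Normal.conj_mem ‹P₀.Normal› p p.2 s⁻¹
    rwa [inv_inv] at this
  have hs2 : s * s ∈ P₀ := Subgroup.mul_self_mem_of_index_two hidx s
  have hPA' : ∀ p : P₀, ∀ e ∈ A, a (P₀.subtype p) e ∈ A := fun p => hPA p p.2
  have hypA := hyp_restrict h A hzA hnd P₀.subtype (h.pP.to_subgroup P₀) hPA' hKA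
  obtain ⟨n, ρA, hA⟩ := exists_isSpin hypA.sym
  obtain ⟨MA, hMA⟩ := hb A _ P₀ _ K _ hypA hA1 _ ρA hA
  have hsinv : ∀ y ∈ B, a s⁻¹ y ∈ A := by
    intro y hy
    have h1 : a s⁻¹ y = a (s⁻¹ * s⁻¹) (a s y) := by
      rw [← MulAut.mul_apply, ← map_mul, show s⁻¹ * s⁻¹ * s = s⁻¹ by group]
    rw [h1]
    refine hPA _ ?_ _ (hsB y hy)
    rw [← mul_inv_rev]; exact inv_mem hs2
  let σ : B →* A :=
    { toFun := fun y => ⟨a s⁻¹ (y : E), hsinv y y.2⟩
      map_one' := Subtype.ext (map_one (a s⁻¹))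
      map_mul' := fun x y => Subtype.ext (map_mul (a s⁻¹) (x : E) y) }
  let ρB : Representation ℂ B (Fin n → ℂ) := ρA.comp σ
  have hσbij : Function.Bijective σ := by
    refine ⟨fun x y e => Subtype.ext ((a s⁻¹).injective (congrArg Subtype.val e)), fun x => ?_⟩
    exact ⟨⟨a s x, hsA x x.2⟩, Subtype.ext (by
      show a s⁻¹ (a s (x : E)) = x
      rw [← MulAut.mul_apply, ← map_mul, inv_mul_cancel, map_one, MulAut.one_apply])⟩
  have hB' : IsSpin (⟨z, hzB⟩ : B) ρB := by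
    refine ⟨?_, ?_⟩
    · show ρA (σ ⟨z, hzB⟩) = -1
      rw [show σ ⟨z, hzB⟩ = ⟨z, hzA⟩ from Subtype.ext (hsy.map_z _), hA.neg]
    · rw [hA.dim]; exact (Nat.card_congr (Equiv.ofBijective σ hσbij)).symm
  let W := (Fin n → ℂ) ⊗[ℂ] (Fin n → ℂ)
  let cj : P₀ →* P₀ :=
    { toFun := fun p => ⟨s⁻¹ * (p : P) * s, hn' p⟩
      map_one' := Subtype.ext (by simp)
      map_mul' := fun p q => Subtype.ext (show s⁻¹ * ((p : P) * q) * s = _ by
        rw [Subgroup.coe_mul]; group) }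
  let M₀ : P₀ →* (Module.End ℂ W)ˣ := MonoidHom.toHomUnits
    { toFun := fun p => TensorProduct.map (MA p : Module.End ℂ (Fin n → ℂ))
        (MA (cj p) : Module.End ℂ (Fin n → ℂ))
      map_one' := by simp [TensorProduct.map_id, Module.End.one_eq_id]
      map_mul' := fun p q => by
        rw [map_mul cj, map_mul, map_mul, Units.val_mul, Units.val_mul]
        exact TensorProduct.map_mul _ _ _ _ }
  set q₂ : P₀ := ⟨s * s, hs2⟩ with hq₂
  let Sl : W →ₗ[ℂ] W :=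
    TensorProduct.map (MA q₂ : Module.End ℂ (Fin n → ℂ)) LinearMap.id ∘ₗ
      (TensorProduct.comm ℂ (Fin n → ℂ) (Fin n → ℂ)).toLinearMap
  let Sl' : W →ₗ[ℂ] W :=
    (TensorProduct.comm ℂ (Fin n → ℂ) (Fin n → ℂ)).toLinearMap ∘ₗ
      TensorProduct.map (↑(MA q₂)⁻¹ : Module.End ℂ (Fin n → ℂ)) LinearMap.id
  let S : (Module.End ℂ W)ˣ :=
    ⟨Sl, Sl', by
      refine TensorProduct.ext' fun v w => ?_
      show ((MA q₂ : Module.End ℂ (Fin n → ℂ)) ((↑(MA q₂)⁻¹ : Module.End ℂ (Fin n → ℂ)) v)) ⊗ₜ[ℂ] w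
        = v ⊗ₜ[ℂ] w
      rw [← Module.End.mul_apply, Units.mul_inv, Module.End.one_apply], by
      refine TensorProduct.ext' fun v w => ?_
      show v ⊗ₜ[ℂ] ((↑(MA q₂)⁻¹ : Module.End ℂ (Fin n → ℂ)) ((MA q₂ : Module.End ℂ (Fin n → ℂ)) w))
        = v ⊗ₜ[ℂ] w
      rw [← Module.End.mul_apply, Units.inv_mul, Module.End.one_apply]⟩
  have hSapp : ∀ v w, (S : Module.End ℂ W) (v ⊗ₜ[ℂ] w) =
      (MA q₂ : Module.End ℂ (Fin n → ℂ)) w ⊗ₜ[ℂ] v := fun v w => rfl
  have hMAmul : ∀ p q v, (MA p : Module.End ℂ (Fin n → ℂ)) ((MA q : Module.End ℂ (Fin n → ℂ)) v) =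
      (MA (p * q) : Module.End ℂ (Fin n → ℂ)) v := fun p q v => by
    rw [map_mul, Units.val_mul, Module.End.mul_apply]
  obtain ⟨M, hM0, hMs⟩ := exists_hom_index_two P₀ s hs hidx M₀ S hn hs2 (fun p => by
      refine Units.ext (TensorProduct.ext' fun v w => ?_)
      show (S : Module.End ℂ W) ((MA p : Module.End ℂ (Fin n → ℂ)) v ⊗ₜ[ℂ]
          (MA (cj p) : Module.End ℂ (Fin n → ℂ)) w) =
        TensorProduct.map (MA ⟨_, hn p p.2⟩ : Module.End ℂ (Fin n → ℂ))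
          (MA (cj ⟨_, hn p p.2⟩) : Module.End ℂ (Fin n → ℂ)) ((S : Module.End ℂ W) (v ⊗ₜ[ℂ] w))
      rw [hSapp, hSapp, TensorProduct.map_tmul, hMAmul, hMAmul,
        show q₂ * cj p = ⟨s * p * s⁻¹, hn p p.2⟩ * q₂ from
          Subtype.ext (show s * s * (s⁻¹ * (p : P) * s) = s * p * s⁻¹ * (s * s) by group),
        show cj ⟨s * p * s⁻¹, hn p p.2⟩ = p from
          Subtype.ext (show s⁻¹ * (s * p * s⁻¹) * s = (p : P) by group)])
    (by
      refine Units.ext (TensorProduct.ext' fun v w => ?_)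
      show (S : Module.End ℂ W) ((S : Module.End ℂ W) (v ⊗ₜ[ℂ] w)) =
        (MA q₂ : Module.End ℂ (Fin n → ℂ)) v ⊗ₜ[ℂ] (MA (cj q₂) : Module.End ℂ (Fin n → ℂ)) w
      rw [hSapp, hSapp, show cj q₂ = q₂ from Subtype.ext (show s⁻¹ * (s * s) * s = s * s by group)])
  -- elements outside `P₀` are `p * s`
  have key : ∀ (Q : P → Prop), (∀ p : P₀, Q p) → Q s → (∀ p q, Q p → Q q → Q (p * q)) → ∀ p, Q p := by
    intro Q h0 h1 hm p
    by_cases hp : p ∈ P₀
    · exact h0 ⟨p, hp⟩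
    · have hp' : p * s⁻¹ ∈ P₀ := (Subgroup.mul_mem_iff_of_index_two hidx).mpr
        (iff_of_false hp fun e => hs (inv_mem_iff.mp e))
      rw [show p = p * s⁻¹ * s by group]
      exact hm _ _ (h0 ⟨_, hp'⟩) h1
  let MP : P →* (Module.End ℂ W)ˣ := M
  let Φ : A × B → Module.End ℂ W := fun x => TensorProduct.map (ρA x.1) (ρB x.2)
  have hΦ : ∀ x y, Φ (x * y) = Φ x * Φ y := fun x y => by
    show TensorProduct.map (ρA (x.1 * y.1)) (ρB (x.2 * y.2)) = _
    rw [map_mul, map_mul]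
    exact TensorProduct.map_mul _ _ _ _
  have hmain : ∀ p : P, ∀ x : A × B, ∃ x' : A × B, (x'.1 : E) * x'.2 = a p ((x.1 : E) * x.2) ∧
      (M p : Module.End ℂ W) * Φ x = Φ x' * (M p : Module.End ℂ W) := by
    refine key _ (fun p x => ?_) (fun x => ?_) fun p q hp hq x => ?_
    · refine ⟨(⟨a p x.1, hPA' p _ x.1.2⟩, ⟨a p x.2, centralizer_stable (a.comp P₀.subtype) hPA' p _ x.2.2⟩),
        (map_mul (a (p : P)) _ _).symm, ?_⟩
      rw [hM0]
      refine TensorProduct.ext' fun v w => ?_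
      show (MA p : Module.End ℂ (Fin n → ℂ)) (ρA x.1 v) ⊗ₜ[ℂ]
          (MA (cj p) : Module.End ℂ (Fin n → ℂ)) (ρA (σ x.2) w) =
        ρA ⟨a p x.1, _⟩ ((MA p : Module.End ℂ (Fin n → ℂ)) v) ⊗ₜ[ℂ]
          ρA (σ ⟨a p x.2, _⟩) ((MA (cj p) : Module.End ℂ (Fin n → ℂ)) w)
      rw [← Module.End.mul_apply, hMA p x.1, ← Module.End.mul_apply (MA (cj p) : Module.End ℂ (Fin n → ℂ)),
        hMA (cj p) (σ x.2), show resHom (a.comp P₀.subtype) A hPA' (cj p) (σ x.2) =
          σ ⟨a p x.2, centralizer_stable (a.comp P₀.subtype) hPA' p _ x.2.2⟩ from Subtype.ext (by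
            show a (s⁻¹ * (p : P) * s) (a s⁻¹ (x.2 : E)) = a s⁻¹ (a p x.2)
            rw [← MulAut.mul_apply, ← map_mul, ← MulAut.mul_apply, ← map_mul]
            congr 2
            group)]
      rfl
    · refine ⟨(⟨a s x.2, hsB _ x.2.2⟩, ⟨a s x.1, hsA _ x.1.2⟩), ?_, ?_⟩
      · show a s (x.2 : E) * a s (x.1 : E) = _
        rw [← map_mul, show (x.2 : E) * x.1 = x.1 * x.2 from
          (Subgroup.mem_centralizer_iff.mp x.2.2 _ x.1.2).symm]
      rw [hMs]
      refine TensorProduct.ext' fun v w => ?_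
      show (S : Module.End ℂ W) (ρA x.1 v ⊗ₜ[ℂ] ρA (σ x.2) w) =
        TensorProduct.map (ρA ⟨a s x.2, _⟩) (ρA (σ ⟨a s x.1, _⟩)) ((S : Module.End ℂ W) (v ⊗ₜ[ℂ] w))
      rw [hSapp, hSapp, TensorProduct.map_tmul, show σ ⟨a s (x.1 : E), hsA _ x.1.2⟩ = x.1 from Subtype.ext (by
          show a s⁻¹ (a s (x.1 : E)) = x.1
          rw [← MulAut.mul_apply, ← map_mul, inv_mul_cancel, map_one, MulAut.one_apply]),
        ← Module.End.mul_apply, hMA q₂ (σ x.2),
        show resHom (a.comp P₀.subtype) A hPA' q₂ (σ x.2) = ⟨a s x.2, hsB _ x.2.2⟩ from Subtype.ext (by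
          show a (s * s) (a s⁻¹ (x.2 : E)) = a s x.2
          rw [← MulAut.mul_apply, ← map_mul, mul_inv_cancel_right])]
      rfl
    · obtain ⟨y, hy, hMy⟩ := hq x
      obtain ⟨w, hw, hMw⟩ := hp y
      refine ⟨w, by rw [hw, hy, map_mul a, MulAut.mul_apply], ?_⟩
      rw [map_mul M, Units.val_mul, mul_assoc, hMy, ← mul_assoc, hMw, mul_assoc]
  refine good_of_product hsy A B hzA hzB hnd.le
    (fun x hx y hy => Subgroup.mem_centralizer_iff.mp hy x hx)
    (hsy.sup_centralizer_eq_top hzA hnd) hA hB' MP (fun p x => ?_) (fun p y => ?_)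
  · obtain ⟨x', hx', hM'⟩ := hmain p (x, 1)
    refine ⟨x', by simpa using hx', ?_⟩
    have e : Φ (x, 1) = TensorProduct.map (ρA x) LinearMap.id := by
      show TensorProduct.map (ρA x) (ρB 1) = _
      rw [map_one]; rfl
    rw [e] at hM'
    exact hM'
  · obtain ⟨x', hx', hM'⟩ := hmain p (1, y)
    refine ⟨x', by simpa using hx', ?_⟩
    have e : Φ (1, y) = TensorProduct.map LinearMap.id (ρB y) := by
      show TensorProduct.map (ρA 1) (ρB y) = _
      rw [map_one]; rfl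
    rw [e] at hM'
    exact hM'

/-- Two transversal abelian blocks interchanged. -/
theorem good_of_swap_pair (h : Hyp z a b) (A B : Subgroup E) (hzA : z ∈ A) (hzB : z ∈ B)
    (hAab : A ≤ Subgroup.centralizer (A : Set E)) (hBab : B ≤ Subgroup.centralizer (B : Set E))
    (hAB : A ⊓ B ≤ Subgroup.zpowers z) (hgen : ∀ e, ∃ x ∈ A, ∃ y ∈ B, e = x * y)
    (hKA : ∀ k, ∀ e ∈ A, b k e ∈ A) (hKB : ∀ k, ∀ e ∈ B, b k e ∈ B)
    (P₀ : Subgroup P) (hidx : P₀.index = 2)
    (hPA : ∀ p ∈ P₀, ∀ e ∈ A, a p e ∈ A) (hPB : ∀ p ∈ P₀, ∀ e ∈ B, a p e ∈ B)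
    (s : P) (hs : s ∉ P₀) (hsA : ∀ e ∈ A, a s e ∈ B) (hsB : ∀ e ∈ B, a s e ∈ A) : Good z a := by
  classical
  have hsy := h.sym
  obtain ⟨hexpA, A₀, hA₀A, hzA₀, hcovA, hcardA, hA₀K, hmaxA⟩ := exists_inv_complement h A hzA hAab hKA
  obtain ⟨hexpB, B₀, hB₀B, hzB₀, hcovB, hcardB, hB₀K, hmaxB⟩ := exists_inv_complement h B hzB hBab hKB
  have hP₀A : ∀ p ∈ P₀, ∀ e ∈ A₀, a p e ∈ A₀ := fun p hp =>
    complement_map h hA₀A hzA₀ hA₀K hmaxA p (hPA p hp)
  have hP₀B : ∀ p ∈ P₀, ∀ e ∈ B₀, a p e ∈ B₀ := fun p hp =>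
    complement_map h hB₀B hzB₀ hB₀K hmaxB p (hPB p hp)
  have hsA₀ : ∀ e ∈ A₀, a s e ∈ B₀ := complement_map h hA₀A hzA₀ hA₀K hmaxB s hsA
  have hsB₀ : ∀ e ∈ B₀, a s e ∈ A₀ := complement_map h hB₀B hzB₀ hB₀K hmaxA s hsB
  intro V _ _ _ ρ hρ
  haveI := hρ.nontrivial
  haveI := Subgroup.normal_of_index_eq_two hidx
  have hn : ∀ p ∈ P₀, s * p * s⁻¹ ∈ P₀ := fun p hp => Subgroup.Normal.conj_mem inferInstance p hp s
  have hs2 : s * s ∈ P₀ := Subgroup.mul_self_mem_of_index_two hidx s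
  -- `|A| = |B| = 2n`
  have hc : Nat.card A = Nat.card B := le_antisymm
    (Nat.card_le_card_of_injective (fun x : A => (⟨a s x, hsA x x.2⟩ : B))
      fun x y e => Subtype.ext ((a s).injective (congrArg Subtype.val e)))
    (Nat.card_le_card_of_injective (fun x : B => (⟨a s x, hsB x x.2⟩ : A))
      fun x y e => Subtype.ext ((a s).injective (congrArg Subtype.val e)))
  have hprod : Nat.card A * Nat.card B = 2 * Nat.card E := by
    haveI := hsy.normal_of_mem hzA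
    let f : B →* E ⧸ A := (QuotientGroup.mk' A).comp B.subtype
    have hker : f.ker = (Subgroup.zpowers z).subgroupOf B := by
      ext c
      rw [MonoidHom.mem_ker, Subgroup.mem_subgroupOf]
      show ((c : E) : E ⧸ A) = 1 ↔ _
      rw [QuotientGroup.eq_one_iff]
      exact ⟨fun hcA => hAB ⟨hcA, c.2⟩, fun hcz => hsy.zpowers_le hzA hcz⟩
    have hsurj : Function.Surjective f := fun q => QuotientGroup.induction_on q fun e => by
      obtain ⟨x, hx, y, hy, rfl⟩ := hgen e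
      refine ⟨⟨y, hy⟩, ?_⟩
      show ((y : E) : E ⧸ A) = ((x * y : E) : E ⧸ A)
      rw [QuotientGroup.mk_mul, (QuotientGroup.eq_one_iff x).mpr hx, one_mul]
    have h1 := Subgroup.card_eq_card_quotient_mul_card_subgroup f.ker
    rw [Nat.card_congr (QuotientGroup.quotientKerEquivOfSurjective f hsurj).toEquiv, hker,
      Nat.card_congr (Subgroup.subgroupOfEquivOfLe (hsy.zpowers_le hzB)).toEquiv, hsy.card_zpowers] at h1
    have h4 : Nat.card E = Nat.card (E ⧸ A) * Nat.card A := Subgroup.card_eq_card_quotient_mul_card_subgroup A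
    rw [h1, h4]; ring
  have hdim : finrank ℂ V = Nat.card A₀ := by
    have h1 := hρ.dim
    rw [← hc, hcardA] at hprod
    exact Nat.mul_self_inj.mp (by nlinarith)
  have hdimB : finrank ℂ V = Nat.card B₀ := by omega
  -- the fixed lines
  have hline : ∀ D : Subgroup E, z ∉ D → finrank ℂ V = Nat.card D →
      finrank ℂ (Representation.invariants (ρ.comp D.subtype : Representation ℂ D V)) = 1 := by
    intro D hzD hD
    haveI := Fintype.ofFinite D
    haveI : Invertible (Nat.card D : ℂ) := invertibleOfNonzero (Nat.cast_ne_zero.mpr Nat.card_pos.ne')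
    have h1 := Representation.card_inv_mul_sum_char_eq_finrank (ρ.comp D.subtype : Representation ℂ D V)
    rw [Finset.sum_eq_single (1 : D) (fun x _ hx => by
        show ρ.character (x : E) = 0
        refine trace_eq_zero hsy hρ.neg (fun e => hx (Subtype.ext e)) fun e => hzD (e ▸ x.2))
      (fun hh => absurd (Finset.mem_univ _) hh), Representation.char_one, hD,
      inv_mul_cancel₀ (Nat.cast_ne_zero.mpr Nat.card_pos.ne')] at h1
    exact_mod_cast h1.symm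
  set UA := Representation.invariants (ρ.comp A₀.subtype : Representation ℂ A₀ V) with hUA
  set UB := Representation.invariants (ρ.comp B₀.subtype : Representation ℂ B₀ V) with hUB
  have hUAmem : ∀ v, v ∈ UA ↔ ∀ x ∈ A₀, ρ x v = v := fun v =>
    ⟨fun hv x hx => hv ⟨x, hx⟩, fun hv x => hv x x.2⟩
  have hUBmem : ∀ v, v ∈ UB ↔ ∀ x ∈ B₀, ρ x v = v := fun v =>
    ⟨fun hv x hx => hv ⟨x, hx⟩, fun hv x => hv x x.2⟩
  obtain ⟨u0, hu00, hu0span⟩ := (finrank_eq_one_iff' (K := ℂ) (V := UA)).mp (hline A₀ hzA₀ hdim)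
  set u : V := (u0 : V) with hu
  have hu0 : u ≠ 0 := fun e => hu00 (Subtype.ext e)
  have huA : ∀ x ∈ A₀, ρ x u = u := (hUAmem u).mp u0.2
  have hspanA : ∀ v ∈ UA, ∃ c : ℂ, v = c • u := fun v hv => by
    obtain ⟨c, hc⟩ := hu0span ⟨v, hv⟩
    exact ⟨c, (congrArg Subtype.val hc).symm⟩
  haveI := Fintype.ofFinite B₀
  haveI := Fintype.ofFinite A₀
  set u' : V := ∑ x : B₀, ρ x u with hu'
  have hu'B : ∀ y ∈ B₀, ρ y u' = u' := fun y hy => by
    rw [hu', map_sum]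
    refine Fintype.sum_equiv (Equiv.mulLeft ⟨y, hy⟩) _ _ fun x => ?_
    rw [Equiv.coe_mulLeft, Subgroup.coe_mul, map_mul, Module.End.mul_apply]
  have hu'0 : u' ≠ 0 := by
    intro he
    let Q : Module.End ℂ V := ∑ y : A₀, ρ (y : E)
    have hQ : ∀ y ∈ A₀, Q * ρ y = Q := fun y hy => by
      rw [Finset.sum_mul]
      refine Fintype.sum_equiv (Equiv.mulRight ⟨y, hy⟩) _ _ fun x => ?_
      rw [Equiv.coe_mulRight, Subgroup.coe_mul, map_mul]
    have hQ0 : ∀ x : B₀, x ≠ 1 → Q (ρ x u) = 0 := by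
      intro x hx
      obtain ⟨y, hy, hxy⟩ : ∃ y ∈ A₀, y * (x : E) ≠ x * y := by
        by_contra hcon
        push Not at hcon
        have hxA : ∀ y ∈ A, y * (x : E) = x * y := fun y hy => by
          rcases hcovA y hy with hy' | hy'
          · exact hcon y hy'
          · have := hcon _ hy'
            rw [mul_assoc, hsy.central, ← mul_assoc, ← mul_assoc] at this
            exact mul_right_cancel this
        have hcen : ∀ e, (x : E) * e = e * x := fun e => by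
          obtain ⟨a₁, ha₁, b₁, hb₁, rfl⟩ := hgen e
          rw [← mul_assoc, ← hxA a₁ ha₁, mul_assoc,
            Subgroup.mem_centralizer_iff.mp (hBab hb₁) x (hB₀B x.2), ← mul_assoc]
        rcases hsy.nondeg x hcen with e | e
        · exact hx (Subtype.ext e)
        · exact hzB₀ (e ▸ x.2)
      have e1 := (hsy.comm y x).resolve_left hxy
      have h1 : ρ y (ρ x u) = - ρ x u := by
        rw [← Module.End.mul_apply, ← map_mul, e1, map_mul, map_mul, hρ.neg, mul_neg, mul_one,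
          LinearMap.neg_apply, Module.End.mul_apply, huA y hy]
      have h2 : Q (ρ x u) = - Q (ρ x u) := by
        conv_lhs => rw [← hQ y hy]
        rw [Module.End.mul_apply, h1, map_neg]
      rwa [eq_neg_iff_add_eq_zero, ← two_smul ℂ, smul_eq_zero, or_iff_right two_ne_zero] at h2
    have h1 : Q u' = 0 := by rw [he, map_zero]
    rw [hu', map_sum, Finset.sum_eq_single (1 : B₀) (fun x _ hx => hQ0 x hx)
      (fun hh => absurd (Finset.mem_univ _) hh), Subgroup.coe_one, map_one, Module.End.one_apply] at h1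
    simp only [Q, LinearMap.sum_apply] at h1
    rw [Finset.sum_congr rfl fun (y : A₀) (_ : y ∈ Finset.univ) => huA (y : E) y.2, Finset.sum_const, Finset.card_univ,
      ← Nat.cast_smul_eq_nsmul ℂ, smul_eq_zero, or_iff_left hu0, Nat.cast_eq_zero] at h1
    exact Fintype.card_ne_zero h1
  have hu'mem : u' ∈ UB := (hUBmem u').mpr hu'B
  have hspanB : ∀ v ∈ UB, ∃ c : ℂ, v = c • u' := fun v hv => by
    obtain ⟨c, hc⟩ := exists_smul_eq_of_finrank_eq_one (hline B₀ hzB₀ hdimB)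
      (x := (⟨u', hu'mem⟩ : UB)) (fun e => hu'0 (congrArg Subtype.val e)) ⟨v, hv⟩
    exact ⟨c, (congrArg Subtype.val hc).symm⟩
  -- realisations carry fixed spaces to fixed spaces
  have hmove : ∀ (p : P) (T : (Module.End ℂ V)ˣ), (∀ e, (T : Module.End ℂ V) * ρ e = ρ (a p e) * T) →
      ∀ (D D' : Subgroup E) v, (∀ x ∈ D', a p⁻¹ x ∈ D) → (∀ x ∈ D, ρ x v = v) →
      ∀ x ∈ D', ρ x ((T : Module.End ℂ V) v) = (T : Module.End ℂ V) v := by
    intro p T hT D D' v hDD hv x hx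
    have h1 := congrArg (fun S : Module.End ℂ V => S v) (hT (a p⁻¹ x))
    simp only [Module.End.mul_apply] at h1
    rw [hv _ (hDD x hx), ← MulAut.mul_apply, ← map_mul a, mul_inv_cancel, map_one, MulAut.one_apply] at h1
    exact h1.symm
  have hrescale : ∀ (p : P) (T : (Module.End ℂ V)ˣ), (∀ e, (T : Module.End ℂ V) * ρ e = ρ (a p e) * T) →
      ∀ c : ℂ, c ≠ 0 → ∃ T' : (Module.End ℂ V)ˣ, (∀ e, (T' : Module.End ℂ V) * ρ e = ρ (a p e) * T') ∧
        (T' : Module.End ℂ V) = c • (T : Module.End ℂ V) := by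
    intro p T hT c hc
    refine ⟨⟨c • (T : Module.End ℂ V), c⁻¹ • (↑T⁻¹ : Module.End ℂ V), ?_, ?_⟩, fun e => ?_, rfl⟩
    · rw [smul_mul_smul_comm, mul_inv_cancel₀ hc, one_smul, Units.mul_inv]
    · rw [smul_mul_smul_comm, inv_mul_cancel₀ hc, one_smul, Units.inv_mul]
    · show c • (T : Module.End ℂ V) * ρ e = ρ (a p e) * (c • (T : Module.End ℂ V))
      rw [smul_mul_assoc, hT, mul_smul_comm]
  have hTne : ∀ (T : (Module.End ℂ V)ˣ) v, v ≠ 0 → (T : Module.End ℂ V) v ≠ 0 := fun T v hv h0 => hv <| by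
    have := congrArg (↑T⁻¹ : Module.End ℂ V) h0
    rwa [map_zero, ← Module.End.mul_apply, Units.inv_mul, Module.End.one_apply] at this
  -- normalisation on `P₀`
  have hex : ∀ p : P₀, ∃ T : (Module.End ℂ V)ˣ,
      (∀ e, (T : Module.End ℂ V) * ρ e = ρ (a p e) * T) ∧ (T : Module.End ℂ V) u = u := by
    intro p
    obtain ⟨T, hT⟩ := exists_op hsy hρ (a p)
    obtain ⟨c, hc⟩ := hspanA _ ((hUAmem _).mpr (hmove p T hT A₀ A₀ u
      (fun x hx => hP₀A _ (inv_mem p.2) x hx) huA))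
    have hc0 : c ≠ 0 := fun e => hTne T u hu0 (by rw [hc, e, zero_smul])
    obtain ⟨T', hT', hTT⟩ := hrescale p T hT c⁻¹ (inv_ne_zero hc0)
    exact ⟨T', hT', by rw [hTT, LinearMap.smul_apply, hc, smul_smul, inv_mul_cancel₀ hc0, one_smul]⟩
  choose m hm hmu using hex
  let M₀ : P₀ →* (Module.End ℂ V)ˣ := MonoidHom.mk' m fun p q => by
    refine op_eq hsy hρ (hm (p * q)) (fun e => ?_) hu0 ?_
    · rw [Units.val_mul, mul_assoc, hm q, ← mul_assoc, hm p, mul_assoc, Subgroup.coe_mul, map_mul,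
        MulAut.mul_apply]
    · rw [hmu, Units.val_mul, Module.End.mul_apply, hmu, hmu]
  have hMu' : ∀ p : P₀, (m p : Module.End ℂ V) u' = u' := fun p => by
    rw [hu', map_sum]
    refine Fintype.sum_equiv
      { toFun := fun x : B₀ => ⟨a (p : P) x, hP₀B p p.2 x x.2⟩
        invFun := fun x : B₀ => ⟨a (p : P)⁻¹ x, hP₀B _ (inv_mem p.2) x x.2⟩
        left_inv := fun x => Subtype.ext (by simp)
        right_inv := fun x => Subtype.ext (by simp) } _ _ fun x => ?_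
    show (m p : Module.End ℂ V) (ρ x u) = ρ (a p x) u
    rw [← Module.End.mul_apply, hm, Module.End.mul_apply, hmu]
  -- the swap
  obtain ⟨T, hT⟩ := exists_op hsy hρ (a s)
  have hs_inv : ∀ x ∈ B₀, a s⁻¹ x ∈ A₀ := fun x hx => by
    have h1 : a s⁻¹ x = a (s * s)⁻¹ (a s x) := by
      rw [← MulAut.mul_apply, ← map_mul]; congr 2; group
    rw [h1]
    exact hP₀A _ (inv_mem hs2) _ (hsB₀ x hx)
  obtain ⟨cB, hcB⟩ := hspanB _ ((hUBmem _).mpr (hmove s T hT A₀ B₀ u hs_inv huA))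
  have hTT : ∀ e, ((T * T : (Module.End ℂ V)ˣ) : Module.End ℂ V) * ρ e = ρ (a (s * s) e) * (T * T : (Module.End ℂ V)ˣ) :=
    fun e => by rw [Units.val_mul, mul_assoc, hT, ← mul_assoc, hT, mul_assoc, map_mul, MulAut.mul_apply]
  obtain ⟨c, hc0, hcc⟩ := op_unique hsy hρ hTT (hm ⟨_, hs2⟩)
  obtain ⟨d, hd⟩ := IsAlgClosed.exists_pow_nat_eq (c⁻¹) two_pos
  have hd0 : d ≠ 0 := fun e => inv_ne_zero hc0 (by rw [← hd, e, zero_pow two_ne_zero])
  obtain ⟨S, hS, hST⟩ := hrescale s T hT d hd0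
  obtain ⟨M, hM0, hMs⟩ := exists_hom_index_two P₀ s hs hidx M₀ S hn hs2 (fun p => by
      refine op_eq hsy hρ (φ := a (s * p)) (fun e => ?_) (fun e => ?_) hu0 ?_
      · show ((S * m p : (Module.End ℂ V)ˣ) : Module.End ℂ V) * ρ e = _
        rw [Units.val_mul, mul_assoc, hm, ← mul_assoc, hS, mul_assoc, map_mul, MulAut.mul_apply]
        rfl
      · show ((m ⟨_, hn p p.2⟩ * S : (Module.End ℂ V)ˣ) : Module.End ℂ V) * ρ e = _
        rw [Units.val_mul, mul_assoc, hS, ← mul_assoc, hm, mul_assoc]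
        congr 2
        rw [← MulAut.mul_apply, ← map_mul]
        congr 2
        show s * (p : P) * s⁻¹ * s = s * p
        group
      · show (S : Module.End ℂ V) ((m p : Module.End ℂ V) u) =
          (m ⟨_, hn p p.2⟩ : Module.End ℂ V) ((S : Module.End ℂ V) u)
        rw [hmu, hST, LinearMap.smul_apply, hcB, map_smul, map_smul, hMu'])
    (Units.ext (by
      show (S : Module.End ℂ V) * S = (m ⟨_, hs2⟩ : Module.End ℂ V)
      rw [hST, smul_mul_smul_comm, ← Units.val_mul, hcc, smul_smul, ← pow_two, hd,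
        inv_mul_cancel₀ hc0, one_smul]))
  refine ⟨M, fun p => ?_⟩
  by_cases hp : p ∈ P₀
  · intro e
    rw [show M p = m ⟨p, hp⟩ from hM0 ⟨p, hp⟩]
    exact hm ⟨p, hp⟩ e
  · intro e
    have hp' : p * s⁻¹ ∈ P₀ := (Subgroup.mul_mem_iff_of_index_two hidx).mpr
      (iff_of_false hp fun e => hs (inv_mem_iff.mp e))
    rw [show p = p * s⁻¹ * s by group, map_mul M, hMs, show M (p * s⁻¹) = m ⟨_, hp'⟩ from hM0 ⟨_, hp'⟩,
      Units.val_mul, mul_assoc, hS, ← mul_assoc, hm, mul_assoc, map_mul a (p * s⁻¹) s, MulAut.mul_apply]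

end CfsgLib.SpinExt
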