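import Mathlib.Algebra.MonoidAlgebra.Basic
import Mathlib.Algebra.Field.ZMod
import Mathlib.Algebra.CharP.Two
import Mathlib.Algebra.Module.ZMod
import Mathlib.GroupTheory.OrderOfElement
import Mathlib.GroupTheory.Perm.Basic
import Mathlib.Data.Finsupp.Fintype
import Mathlib.Data.Fintype.Perm

/-!
Conjugate sums of a group of odd order on an `F₂`-module without fixed points.
-/

set_option autoImplicit false
set_option linter.all false

namespace CfsgLib.SpinExt

open MonoidAlgebra

universe u

variable {K : Type u} [Group K] [Fintype K]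

/-- A symmetric sum over a group of odd order. -/
theorem sum_of_symm (hodd : Odd (Fintype.card K)) (f : K → ZMod 2) (hf : ∀ k, f k⁻¹ = f k) :
    ∑ k, f k = f 1 := by
  classical
  rw [← Finset.add_sum_erase _ f (Finset.mem_univ (1 : K)), add_eq_left]
  refine Finset.sum_involution (fun k _ => k⁻¹) (fun k _ => ?_) (fun k hk _ e => ?_) (fun k hk => ?_)
    (fun k _ => inv_inv k)
  · rw [hf]; exact CharTwo.add_self_eq_zero (f k)
  · have h2 : k ^ 2 = 1 := by rw [pow_two]; nth_rewrite 1 [← e]; exact inv_mul_cancel k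
    obtain ⟨j, hj⟩ := hodd
    have h3 : k ^ Fintype.card K = 1 := pow_card_eq_one
    rw [hj, pow_succ, pow_mul, h2, one_pow, one_mul] at h3
    exact (Finset.mem_erase.mp hk).1 h3
  · exact Finset.mem_erase.mpr ⟨fun e => (Finset.mem_erase.mp hk).1 (inv_eq_one.mp e), Finset.mem_univ _⟩

/-- The sum of all conjugates of `g`. -/
noncomputable def conjSum (g : K) : MonoidAlgebra (ZMod 2) K := ∑ k, single (k * g * k⁻¹) 1

theorem commute_of_single {z : MonoidAlgebra (ZMod 2) K}
    (h : ∀ l : K, single l (1 : ZMod 2) * z = z * single l 1) (x : MonoidAlgebra (ZMod 2) K) :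
    x * z = z * x := by
  induction x using MonoidAlgebra.induction_linear with
  | zero => rw [zero_mul, mul_zero]
  | add a b ha hb => rw [add_mul, mul_add, ha, hb]
  | single l r =>
    rw [show single l r = r • single l (1 : ZMod 2) by rw [smul_single, smul_eq_mul, mul_one],
      smul_mul_assoc, h, mul_smul_comm]

theorem conjSum_comm (g : K) (x : MonoidAlgebra (ZMod 2) K) : x * conjSum g = conjSum g * x := by
  refine commute_of_single (fun l => ?_) x
  rw [conjSum, Finset.mul_sum, Finset.sum_mul]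
  refine Fintype.sum_equiv (Equiv.mulLeft l) _ _ fun k => ?_
  rw [Equiv.coe_mulLeft, single_mul_single, single_mul_single]
  congr 1
  group

theorem coeff_one_mul (x y : MonoidAlgebra (ZMod 2) K) :
    (x * y).coeff 1 = ∑ h, x.coeff h * y.coeff h⁻¹ := by
  classical
  rw [coeff_mul_antidiag x y 1 (Finset.univ.image fun h => (h, h⁻¹)) (fun {p} => by
    simp only [Finset.mem_image, Finset.mem_univ, true_and]
    exact ⟨by rintro ⟨h, rfl⟩; exact mul_inv_cancel h,
      fun e => ⟨p.1, Prod.ext rfl (inv_eq_of_mul_eq_one_right e)⟩⟩)]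
  exact Finset.sum_image fun a _ b _ e => congrArg Prod.fst e

theorem coeff_one_mul_single (x : MonoidAlgebra (ZMod 2) K) (g : K) :
    (x * single g 1).coeff 1 = x.coeff g⁻¹ := by
  classical
  rw [coeff_one_mul, Finset.sum_eq_single g⁻¹]
  · rw [inv_inv, coeff_single, Finsupp.single_eq_same, mul_one]
  · intro h _ hne
    rw [coeff_single, Finsupp.single_eq_of_ne, mul_zero]
    exact fun e => hne (by rw [← inv_inv h, e])
  · exact fun h => absurd (Finset.mem_univ _) h

theorem coeff_conj {x : MonoidAlgebra (ZMod 2) K} (hx : ∀ y, y * x = x * y) (k g : K) :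
    x.coeff (k * g * k⁻¹) = x.coeff g := by
  have h1 : (x * single k (1 : ZMod 2) * single ((k * g)⁻¹) 1).coeff 1 =
      (single k (1 : ZMod 2) * x * single ((k * g)⁻¹) 1).coeff 1 := by rw [hx]
  rw [mul_assoc x, single_mul_single, mul_one, coeff_one_mul_single, coeff_one_mul_single] at h1
  rw [show (k * (k * g)⁻¹)⁻¹ = k * g * k⁻¹ by group] at h1
  rw [h1, inv_inv]
  exact (by rw [coeff_single_mul_apply, one_mul, inv_mul_cancel_left] :
    (single k (1 : ZMod 2) * x).coeff (k * g) = x.coeff g)

theorem coeff_mul_conjSum (hodd : Odd (Fintype.card K)) {x : MonoidAlgebra (ZMod 2) K}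
    (hx : ∀ y, y * x = x * y) (g : K) : (x * conjSum g).coeff 1 = x.coeff g⁻¹ := by
  rw [conjSum, Finset.mul_sum, coeff_sum, Finset.sum_apply']
  rw [Finset.sum_congr rfl fun k _ => by
    rw [coeff_one_mul_single, show (k * g * k⁻¹)⁻¹ = k * g⁻¹ * k⁻¹ by group, coeff_conj hx],
    Finset.sum_const, Finset.card_univ]
  obtain ⟨j, hj⟩ := hodd
  rw [hj, succ_nsmul, mul_comm 2 j, mul_nsmul, two_nsmul, CharTwo.add_self_eq_zero, zero_add]

theorem eq_zero_of_sq (hodd : Odd (Fintype.card K)) {x : MonoidAlgebra (ZMod 2) K}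
    (hx : ∀ y, y * x = x * y) (h2 : x * x = 0) : x = 0 := by
  refine MonoidAlgebra.ext (Finsupp.ext fun g => ?_)
  rw [← inv_inv g, ← coeff_mul_conjSum hodd hx g⁻¹]
  set w := x * conjSum g⁻¹ with hw
  have hww : w * w = 0 := by
    rw [hw, mul_assoc, ← mul_assoc (conjSum g⁻¹), hx, mul_assoc, ← mul_assoc x x, h2, zero_mul]
  have h3 := coeff_one_mul w w
  rw [hww, sum_of_symm hodd _ (fun k => by rw [inv_inv, mul_comm]), inv_one] at h3
  show w.coeff 1 = 0
  have h4 : ∀ a : ZMod 2, a * a = a := by decide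
  rw [h4] at h3
  simpa using h3.symm

variable {M : Type u} [AddCommGroup M] [Module (ZMod 2) M] [Finite M]

/-- The operator sum of all conjugates. -/
noncomputable def conjOp (π₀ : K →* Module.End (ZMod 2) M) (g : K) : Module.End (ZMod 2) M :=
  ∑ k, π₀ (k * g * k⁻¹)

theorem lift_conjSum (π₀ : K →* Module.End (ZMod 2) M) (g : K) :
    MonoidAlgebra.lift (ZMod 2) (Module.End (ZMod 2) M) K π₀ (conjSum g) = conjOp π₀ g := by
  rw [conjSum, map_sum]
  exact Finset.sum_congr rfl fun k _ => by rw [MonoidAlgebra.lift_single, one_smul]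

/-- The conjugate sums satisfy a Frobenius identity, and they tell `g` from `g⁻¹` when there are no
fixed points. -/
theorem conjOp_frobenius (hodd : Odd (Fintype.card K)) (π₀ : K →* Module.End (ZMod 2) M) :
    (∃ t : ℕ, 1 ≤ t ∧ ∀ g, conjOp π₀ g ^ 2 ^ t = conjOp π₀ g) ∧
      ((∀ v, (∀ k, π₀ k v = v) → v = 0) → Nontrivial M → ∃ g, conjOp π₀ g ≠ conjOp π₀ g⁻¹) := by
  classical
  set A := MonoidAlgebra (ZMod 2) K
  haveI : Finite A := Finite.of_equiv _ (MonoidAlgebra.coeffEquiv (R := ZMod 2) (M := K)).symm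
  let Z := Subring.center A
  have hZc : ∀ z : Z, ∀ y : A, y * (z : A) = (z : A) * y := fun z => Subring.mem_center_iff.mp z.2
  have hadd : ∀ a : A, a + a = 0 := fun a =>
    MonoidAlgebra.ext (Finsupp.ext fun g => show a.coeff g + a.coeff g = (0 : ZMod 2) from
      CharTwo.add_self_eq_zero _)
  let sq : Z → Z := fun z => z * z
  have hinj : Function.Injective sq := by
    intro x y (e : x * x = y * y)
    have h0 : ((x : A) + y) * ((x : A) + y) = 0 := by
      have e' : (x : A) * x = y * y := congrArg Subtype.val e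
      rw [add_mul, mul_add, mul_add, e', hZc y x, show (y : A) * y + (y : A) * x + ((y : A) * x + (y : A) * y)
        = ((y : A) * y + y * y) + ((y : A) * x + y * x) by abel, hadd, hadd, add_zero]
    have h1 := eq_zero_of_sq hodd (fun w => by rw [mul_add, add_mul, hZc x, hZc y]) h0
    refine Subtype.ext ?_
    rw [← add_zero (x : A), ← hadd (y : A), ← add_assoc, h1, zero_add]
  let f : Equiv.Perm Z := Equiv.ofBijective sq (Finite.injective_iff_bijective.mp hinj)
  have hiter : ∀ (n : ℕ) (z : Z), (f ^ n) z = z ^ 2 ^ n := by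
    intro n
    induction n with
    | zero => intro z; simp
    | succ n ih =>
      intro z
      rw [pow_succ', Equiv.Perm.mul_apply, ih]
      show z ^ 2 ^ n * z ^ 2 ^ n = _
      rw [← pow_add, ← two_mul, ← pow_succ']
  obtain ⟨t, ht1, ht⟩ : ∃ t : ℕ, 1 ≤ t ∧ ∀ z : Z, z ^ 2 ^ t = z :=
    ⟨orderOf f, orderOf_pos f, fun z => by rw [← hiter, pow_orderOf_eq_one]; rfl⟩
  set π := MonoidAlgebra.lift (ZMod 2) (Module.End (ZMod 2) M) K π₀ with hπ
  let Cz : K → Z := fun g => ⟨conjSum g, Subring.mem_center_iff.mpr (conjSum_comm g)⟩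
  refine ⟨⟨t, ht1, fun g => ?_⟩, fun hfix hne => ?_⟩
  · have := congrArg (fun z : Z => π (z : A)) (ht (Cz g))
    simpa [Cz, map_pow, hπ, lift_conjSum] using this
  by_contra hc
  push Not at hc
  haveI : Fintype Z := Fintype.ofFinite Z
  let e : Z → Z := fun j => 1 - j ^ (2 ^ t - 1)
  let y : Z := ∏ j ∈ Finset.univ.filter (fun j : Z => π (j : A) = 0), e j
  have hy1 : π (y : A) = 1 := by
    have hp : ∀ s : Finset Z, (∀ j ∈ s, π (j : A) = 0) → π ((∏ j ∈ s, e j : Z) : A) = 1 := by
      intro s
      induction s using Finset.induction_on with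
      | empty => intro _; simp
      | insert a s ha ih =>
        intro hs
        rw [Finset.prod_insert ha, Subring.coe_mul, map_mul, ih fun j hj => hs j (Finset.mem_insert_of_mem hj),
          mul_one]
        show π ((1 : A) - ((a ^ (2 ^ t - 1) : Z) : A)) = 1
        have h2 : 2 ^ t - 1 ≠ 0 := by
          have : 2 ≤ 2 ^ t := le_self_pow₀ (by norm_num) (by omega)
          omega
        rw [map_sub, map_one, Subring.coe_pow, map_pow, hs a (Finset.mem_insert_self a s), zero_pow h2,
          sub_zero]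
    exact hp _ fun j hj => (Finset.mem_filter.mp hj).2
  have hyJ : ∀ j : Z, π (j : A) = 0 → y * j = 0 := by
    intro j hj
    have hm : j ∈ Finset.univ.filter (fun j : Z => π (j : A) = 0) := Finset.mem_filter.mpr ⟨Finset.mem_univ _, hj⟩
    show (∏ i ∈ _, e i) * j = 0
    rw [← Finset.prod_erase_mul _ _ hm, mul_assoc]
    have : e j * j = 0 := by
      show (1 - j ^ (2 ^ t - 1)) * j = 0
      rw [sub_mul, one_mul, ← pow_succ, Nat.sub_add_cancel Nat.one_le_two_pow, ht, sub_self]
    rw [this, mul_zero]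
  -- the sum of all elements is killed
  let Sg : A := ∑ k, single k 1
  have hSgc : ∀ x, x * Sg = Sg * x := commute_of_single fun l => by
    show single l (1 : ZMod 2) * Sg = Sg * single l 1
    rw [Finset.mul_sum, Finset.sum_mul]
    refine Fintype.sum_equiv ((Equiv.mulLeft l).trans (Equiv.mulRight l⁻¹)) _ _ fun k => ?_
    show single l (1 : ZMod 2) * single k 1 = single (l * k * l⁻¹) 1 * single l 1
    rw [single_mul_single, single_mul_single, mul_one, inv_mul_cancel_right]
  let Sz : Z := ⟨Sg, Subring.mem_center_iff.mpr hSgc⟩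
  have hSz : π (Sz : A) = 0 := by
    show π Sg = 0
    refine LinearMap.ext fun v => hfix _ fun k => ?_
    rw [map_sum, LinearMap.sum_apply, map_sum]
    refine Fintype.sum_equiv (Equiv.mulLeft k) _ _ fun l => ?_
    rw [Equiv.coe_mulLeft, hπ, MonoidAlgebra.lift_single, MonoidAlgebra.lift_single, one_smul, one_smul,
      map_mul, Module.End.mul_apply]
  have hvanish : ∀ w : Z, (((y * w : Z) : A)).coeff 1 = 0 := by
    intro w
    set u : A := ((y * w : Z) : A) with hu
    have huc : ∀ x, x * u = u * x := hZc (y * w)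
    have hsym : ∀ g, u.coeff g⁻¹ = u.coeff g := by
      intro g
      rw [← coeff_mul_conjSum hodd huc g]
      conv_rhs => rw [← inv_inv g, ← coeff_mul_conjSum hodd huc g⁻¹]
      have hd : π ((Cz g - Cz g⁻¹ : Z) : A) = 0 := by
        rw [AddSubgroupClass.coe_sub, map_sub]
        show π (conjSum g) - π (conjSum g⁻¹) = 0
        rw [hπ, lift_conjSum, lift_conjSum, hc, sub_self]
      have h1 : (y * w) * (Cz g - Cz g⁻¹) = 0 := by
        rw [mul_comm y w, mul_assoc, hyJ _ hd, mul_zero]
      rw [mul_sub, sub_eq_zero] at h1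
      exact congrArg (fun z : Z => (z : A).coeff 1) h1
    have h1 : (y * w) * Sz = 0 := by rw [mul_comm y w, mul_assoc, hyJ _ hSz, mul_zero]
    have h2 := congrArg (fun z : Z => (z : A).coeff 1) h1
    change (u * Sg).coeff 1 = (0 : A).coeff 1 at h2
    rw [Finset.mul_sum, coeff_sum, Finset.sum_apply', Finset.sum_congr rfl fun k _ => coeff_one_mul_single u k,
      sum_of_symm hodd _ (fun k => by rw [hsym]), inv_one] at h2
    simpa using h2
  have hy0 : (y : A) = 0 := MonoidAlgebra.ext (Finsupp.ext fun g => by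
    rw [← inv_inv g, ← coeff_mul_conjSum hodd (hZc y) g⁻¹]
    simpa using hvanish (Cz g⁻¹))
  rw [hy0, map_zero] at hy1
  obtain ⟨v, hv⟩ := exists_ne (0 : M)
  exact hv (congrArg (fun T : Module.End (ZMod 2) M => T v) hy1).symm

end CfsgLib.SpinExt
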