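import Cfsg.Agent.Lib.LocalEven.SpinExt.Operators
import Cfsg.Agent.Lib.Known.AutPSL.Structure
import Mathlib.GroupTheory.Sylow

/-!
The case without a proper invariant subgroup.
-/

set_option autoImplicit false
set_option linter.all false

namespace CfsgLib.SpinExt

universe u

/-- A proper subgroup of a finite 2-group lies in a subgroup of index two. -/
theorem exists_index_two {P : Type u} [Group P] [Finite P] (hP : IsPGroup 2 P) (S : Subgroup P)
    (hS : S ≠ ⊤) : ∃ P₀ : Subgroup P, S ≤ P₀ ∧ P₀.index = 2 := by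
  haveI : Fact (Nat.Prime 2) := ⟨Nat.prime_two⟩
  obtain ⟨N, hN⟩ := IsPGroup.iff_card.mp hP
  obtain ⟨n, hn⟩ := IsPGroup.iff_card.mp (hP.to_subgroup S)
  have hlt : n < N := by
    have h1 : Nat.card S < Nat.card P := lt_of_le_of_ne (Subgroup.card_le_card_group S)
      fun e => hS (Subgroup.eq_top_of_card_eq S e)
    rw [hN, hn] at h1
    exact (Nat.pow_lt_pow_iff_right (by norm_num)).mp h1
  obtain ⟨P₀, hc, hle⟩ := Sylow.exists_subgroup_card_pow_prime_le 2
    (show 2 ^ (N - 1) ∣ Nat.card P by rw [hN]; exact pow_dvd_pow 2 (by omega)) S hn (by omega)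
  refine ⟨P₀, hle, ?_⟩
  have h2 := Subgroup.card_mul_index P₀
  rw [hc, hN, show N = N - 1 + 1 by omega, pow_succ, Nat.add_sub_cancel] at h2
  exact Nat.eq_of_mul_eq_mul_left (pow_pos two_pos _) h2

variable {E : Type u} [Group E] [Finite E] {z : E} {P : Type u} [Group P] [Finite P] {a : P →* MulAut E}
  {K : Type u} [Group K] [Fintype K] {b : K →* MulAut E}
  {M : Type u} [AddCommGroup M] [Module (ZMod 2) M] [Finite M] (C : Coord z M)

theorem Hyp.conj_b (h : Hyp z a b) (p : P) (k : K) : ∃ k', a p * b k * (a p)⁻¹ = b k' := by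
  obtain ⟨k', hk'⟩ := h.norm p k
  exact ⟨k', mul_inv_eq_iff_eq_mul.mpr (MulEquiv.ext fun e => hk' e)⟩

/-- A nontrivial idempotent gives a pair of blocks permuted by the 2-group. -/
theorem good_of_idempotent (h : Hyp z a b) (hb : Below.{u} (Nat.card E)) (hbinj : Function.Injective b)
    (hirr : ∀ A : Subgroup E, z ∈ A → (∀ p, ∀ e ∈ A, a p e ∈ A) → (∀ k, ∀ e ∈ A, b k e ∈ A) →
      A = Subgroup.zpowers z ∨ A = ⊤)
    (g₀ : Module.End (ZMod 2) M) (hg₀ : g₀ ∈ C.ring b) (hg₀i : g₀ * g₀ = g₀) (hg₀0 : g₀ ≠ 0) (hg₀1 : g₀ ≠ 1) :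
    Good z a := by
  classical
  have hs := h.sym
  haveI := Fintype.ofFinite P
  let IsIdem : Module.End (ZMod 2) M → Prop := fun e => e ∈ C.ring b ∧ e * e = e ∧ e ≠ 0
  -- a primitive idempotent
  obtain ⟨e, ⟨heR, hei, he0⟩, hmin⟩ : ∃ e, IsIdem e ∧
      ∀ f, IsIdem f → Nat.card (LinearMap.range e) ≤ Nat.card (LinearMap.range f) := by
    have : (Set.range fun f : {f // IsIdem f} => Nat.card (LinearMap.range f.1)).Nonempty :=
      ⟨_, ⟨⟨g₀, hg₀, hg₀i, hg₀0⟩, rfl⟩⟩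
    obtain ⟨⟨e, he⟩, hemin⟩ := (Nat.sInf_mem this)
    exact ⟨e, he, fun f hf => (le_of_eq hemin).trans (Nat.sInf_le ⟨⟨f, hf⟩, rfl⟩)⟩
  have hprim : ∀ g ∈ C.ring b, g * g = g → e * g = 0 ∨ e * g = e := by
    intro g hg hgi
    by_cases hz : e * g = 0
    · exact Or.inl hz
    refine Or.inr ?_
    have hfi : e * g * (e * g) = e * g := by
      rw [mul_assoc, ← mul_assoc g e, C.ring_comm b hg heR, mul_assoc e g g, hgi, ← mul_assoc, hei]
    have hle : LinearMap.range (e * g) ≤ LinearMap.range e := by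
      rintro _ ⟨v, rfl⟩
      exact ⟨g v, rfl⟩
    have hcard := hmin _ ⟨mul_mem heR hg, hfi, hz⟩
    have heq : LinearMap.range (e * g) = LinearMap.range e := by
      refine SetLike.coe_injective (Set.eq_of_subset_of_ncard_le hle ?_ (Set.toFinite _))
      rwa [← Nat.card_coe_set_eq, ← Nat.card_coe_set_eq]
    refine LinearMap.ext fun v => ?_
    obtain ⟨w, hw⟩ : e v ∈ LinearMap.range (e * g) := heq ▸ LinearMap.mem_range_self e v
    have h2 : (e * g) (e v) = e v := by rw [← hw, ← Module.End.mul_apply, hfi]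
    rw [← Module.End.mul_apply] at h2
    rwa [mul_assoc, C.ring_comm b hg heR, ← mul_assoc, hei] at h2
  let σ : P →* RingAut (Module.End (ZMod 2) M) := C.conj.comp a
  have hσR : ∀ p, ∀ r ∈ C.ring b, σ p r ∈ C.ring b := fun p r hr => C.conj_mem hbinj (a p) (h.conj_b p) hr
  have hσσ : ∀ p q r, σ p (σ q r) = σ (p * q) r := fun p q r => by rw [map_mul]; rfl
  have hprim' : ∀ p, ∀ g ∈ C.ring b, g * g = g → σ p e * g = 0 ∨ σ p e * g = σ p e := by
    intro p g hg hgi
    have hg' := hprim (σ p⁻¹ g) (hσR _ g hg) (by rw [← map_mul, hgi])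
    have e1 : σ p (σ p⁻¹ g) = g := by rw [hσσ, mul_inv_cancel, map_one]; rfl
    rcases hg' with e2 | e2
    · left; have := congrArg (σ p) e2; rwa [map_mul, e1, map_zero] at this
    · right; have := congrArg (σ p) e2; rwa [map_mul, e1] at this
  let O : Finset (Module.End (ZMod 2) M) := Finset.univ.image fun p => σ p e
  have hOmem : ∀ o, o ∈ O ↔ ∃ p, σ p e = o := fun o => by simp [O]
  have hOR : ∀ o ∈ O, o ∈ C.ring b ∧ o * o = o := fun o ho => by
    obtain ⟨p, rfl⟩ := (hOmem o).mp ho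
    exact ⟨hσR p e heR, by rw [← map_mul, hei]⟩
  have hOne : ∀ o ∈ O, ∀ o' ∈ O, o ≠ o' → o * o' = 0 := by
    intro o ho o' ho' hne
    obtain ⟨p, rfl⟩ := (hOmem o).mp ho
    obtain ⟨q, rfl⟩ := (hOmem o').mp ho'
    rcases hprim' p _ (hOR _ ho').1 (hOR _ ho').2 with e1 | e1
    · exact e1
    rcases hprim' q _ (hOR _ ho).1 (hOR _ ho).2 with e2 | e2
    · rw [C.ring_comm b (hOR _ ho).1 (hOR _ ho').1]; exact e2
    · exact absurd (e1.symm.trans ((C.ring_comm b (hOR _ ho).1 (hOR _ ho').1).trans e2)) hne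
  have hsum_idem : ∀ S : Finset (Module.End (ZMod 2) M), S ⊆ O →
      (∑ o ∈ S, o) * (∑ o ∈ S, o) = ∑ o ∈ S, o := by
    intro S hS
    rw [Finset.sum_mul]
    refine Finset.sum_congr rfl fun o ho => ?_
    rw [Finset.mul_sum, Finset.sum_eq_single o (fun o' ho' hne => hOne o (hS ho) o' (hS ho') hne.symm)
      (fun hh => absurd ho hh)]
    exact (hOR o (hS ho)).2
  have hsum_e : ∀ S : Finset (Module.End (ZMod 2) M), S ⊆ O → ∀ o ∈ S, o * (∑ o' ∈ S, o') = o := by
    intro S hS o ho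
    rw [Finset.mul_sum, Finset.sum_eq_single o (fun o' ho' hne => hOne o (hS ho) o' (hS ho') hne.symm)
      (fun hh => absurd ho hh)]
    exact (hOR o (hS ho)).2
  have hLp : ∀ p r v, σ p r = r → C.L (a p) (r v) = r (C.L (a p) v) := by
    intro p r v hpr
    have h1 : C.L (a p) * r = r * C.L (a p) := by
      conv_rhs => rw [← hpr]
      show _ = C.L (a p) * r * C.L (a p)⁻¹ * C.L (a p)
      rw [mul_assoc, ← map_mul, inv_mul_cancel, map_one, mul_one]
    exact congrArg (fun T : Module.End (ZMod 2) M => T v) h1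
  have hKfix : ∀ r ∈ C.ring b, ∀ k v, C.L (b k) (r v) = r (C.L (b k) v) := fun r hr k v =>
    congrArg (fun T : Module.End (ZMod 2) M => T v) (C.commute_L b hr k)
  -- blocks
  let blk : Module.End (ZMod 2) M → Subgroup E := fun r => C.pre (LinearMap.range r)
  have hblk : ∀ r, r * r = r → ∀ x, x ∈ blk r ↔ r (C.mk x) = C.mk x := fun r hr x => by
    rw [C.mem_pre, LinearMap.mem_range]
    exact ⟨fun ⟨w, hw⟩ => by rw [← hw, ← Module.End.mul_apply, hr], fun h => ⟨_, h⟩⟩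
  have hblkK : ∀ r ∈ C.ring b, ∀ k, ∀ x ∈ blk r, b k x ∈ blk r := by
    intro r hr k x hx
    obtain ⟨w, hw⟩ := hx
    exact ⟨C.L (b k) w, by rw [← hKfix r hr, hw, C.L_mk]⟩
  have hblkP : ∀ p r, ∀ x ∈ blk r, a p x ∈ blk (σ p r) := by
    intro p r x hx
    obtain ⟨w, hw⟩ := hx
    refine ⟨C.L (a p) w, ?_⟩
    show (C.L (a p) * r * C.L (a p)⁻¹) (C.L (a p) w) = C.mk (a p x)
    rw [← Module.End.mul_apply, mul_assoc, ← map_mul, inv_mul_cancel, map_one, mul_one, Module.End.mul_apply,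
      hw, C.L_mk]
  -- the orbit sum is one
  have hf1 : ∑ o ∈ O, o = 1 := by
    have hfR : (∑ o ∈ O, o) ∈ C.ring b := sum_mem fun o ho => (hOR o ho).1
    have hfP : ∀ p, σ p (∑ o ∈ O, o) = ∑ o ∈ O, o := fun p => by
      rw [map_sum]
      refine Finset.sum_nbij' (σ p) (σ p⁻¹) ?_ ?_ ?_ ?_ (fun o _ => rfl)
      · intro o ho
        obtain ⟨q, rfl⟩ := (hOmem o).mp ho
        exact (hOmem _).mpr ⟨p * q, (hσσ p q e).symm⟩
      · intro o ho
        obtain ⟨q, rfl⟩ := (hOmem o).mp ho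
        exact (hOmem _).mpr ⟨p⁻¹ * q, (hσσ p⁻¹ q e).symm⟩
      · intro o _; rw [hσσ, inv_mul_cancel, map_one]; rfl
      · intro o _; rw [hσσ, mul_inv_cancel, map_one]; rfl
    have hfi := hsum_idem O (Finset.Subset.refl _)
    rcases hirr (blk (∑ o ∈ O, o)) (C.self_mem_pre _) (fun p x hx => by
        have := hblkP p _ x hx; rwa [hfP] at this) (hblkK _ hfR) with hA | hA
    · exfalso
      have he : e ∈ O := (hOmem e).mpr ⟨1, by rw [map_one]; rfl⟩
      refine he0 (LinearMap.ext fun v => ?_)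
      obtain ⟨x, rfl⟩ := C.surj v
      obtain ⟨y, hy⟩ := C.surj ((∑ o ∈ O, o) (C.mk x))
      have hy' : y ∈ blk (∑ o ∈ O, o) := ⟨C.mk x, hy.symm⟩
      rw [hA, ← C.mk_eq_zero, hy] at hy'
      rw [← hsum_e O (Finset.Subset.refl _) e he, Module.End.mul_apply, hy', map_zero, LinearMap.zero_apply]
    · refine LinearMap.ext fun v => ?_
      obtain ⟨x, rfl⟩ := C.surj v
      exact (hblk _ hfi x).mp (hA ▸ Subgroup.mem_top x)
  -- the subgroup of index two
  let St : Subgroup P :=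
    { carrier := {p | σ p e = e}
      one_mem' := by simp only [Set.mem_setOf_eq, map_one]; rfl
      mul_mem' := fun {p q} (hp : σ p e = e) (hq : σ q e = e) => show σ (p * q) e = e by rw [← hσσ, hq, hp]
      inv_mem' := fun {p} (hp : σ p e = e) => show σ p⁻¹ e = e by
        conv_lhs => rw [← hp, hσσ, inv_mul_cancel, map_one]
        rfl }
  have hSt : St ≠ ⊤ := by
    intro htop
    have hO1 : O = {e} := by
      refine Finset.eq_singleton_iff_unique_mem.mpr ⟨(hOmem e).mpr ⟨1, by rw [map_one]; rfl⟩, fun o ho => ?_⟩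
      obtain ⟨p, rfl⟩ := (hOmem o).mp ho
      exact (htop ▸ Subgroup.mem_top p : p ∈ St)
    rw [hO1, Finset.sum_singleton] at hf1
    rcases hprim g₀ hg₀ hg₀i with e1 | e1
    · exact hg₀0 (by rwa [hf1, one_mul] at e1)
    · exact hg₀1 (by rwa [hf1, one_mul] at e1)
  obtain ⟨P₀, hStP, hidx⟩ := exists_index_two h.pP St hSt
  obtain ⟨s, hsP⟩ : ∃ s, s ∉ P₀ := by
    by_contra hc; push Not at hc
    rw [(Subgroup.eq_top_iff' P₀).mpr hc, Subgroup.index_top] at hidx
    omega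
  let O₀ : Finset (Module.End (ZMod 2) M) := (Finset.univ.filter (· ∈ P₀)).image fun p => σ p e
  have hO₀mem : ∀ o, o ∈ O₀ ↔ ∃ p ∈ P₀, σ p e = o := fun o => by simp [O₀]
  have hO₀O : O₀ ⊆ O := fun o ho => by
    obtain ⟨p, -, rfl⟩ := (hO₀mem o).mp ho; exact (hOmem _).mpr ⟨p, rfl⟩
  have hmem0 : ∀ p, σ p e ∈ O₀ → p ∈ P₀ := fun p hp => by
    obtain ⟨q, hq, e'⟩ := (hO₀mem _).mp hp
    have : q⁻¹ * p ∈ St := show σ (q⁻¹ * p) e = e by
      rw [← hσσ, ← e', hσσ, inv_mul_cancel, map_one]; rfl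
    simpa using mul_mem hq (hStP this)
  set e₁ := ∑ o ∈ O₀, o with he₁
  have he₁R : e₁ ∈ C.ring b := sum_mem fun o ho => (hOR o (hO₀O ho)).1
  have he₁i : e₁ * e₁ = e₁ := hsum_idem O₀ hO₀O
  have he₁P : ∀ p ∈ P₀, σ p e₁ = e₁ := fun p hp => by
    rw [he₁, map_sum]
    refine Finset.sum_nbij' (σ p) (σ p⁻¹) ?_ ?_ ?_ ?_ (fun o _ => rfl)
    · intro o ho
      obtain ⟨q, hq, rfl⟩ := (hO₀mem o).mp ho
      exact (hO₀mem _).mpr ⟨p * q, mul_mem hp hq, (hσσ p q e).symm⟩
    · intro o ho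
      obtain ⟨q, hq, rfl⟩ := (hO₀mem o).mp ho
      exact (hO₀mem _).mpr ⟨p⁻¹ * q, mul_mem (inv_mem hp) hq, (hσσ p⁻¹ q e).symm⟩
    · intro o _; rw [hσσ, inv_mul_cancel, map_one]; rfl
    · intro o _; rw [hσσ, mul_inv_cancel, map_one]; rfl
  have hs2 : s * s ∈ P₀ := Subgroup.mul_self_mem_of_index_two hidx s
  set e₂ := σ s e₁ with he₂
  have he₂R : e₂ ∈ C.ring b := hσR s _ he₁R
  have he₂i : e₂ * e₂ = e₂ := by rw [he₂, ← map_mul, he₁i]
  have he₂' : e₂ = ∑ o ∈ O \ O₀, o := by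
    rw [he₂, he₁, map_sum]
    refine Finset.sum_nbij' (σ s) (σ s⁻¹) ?_ ?_ ?_ ?_ (fun o _ => rfl)
    · intro o ho
      obtain ⟨q, hq, rfl⟩ := (hO₀mem o).mp ho
      rw [Finset.mem_sdiff]
      refine ⟨(hOmem _).mpr ⟨s * q, (hσσ s q e).symm⟩, fun hm => hsP ?_⟩
      rw [hσσ] at hm
      simpa using mul_mem (hmem0 _ hm) (inv_mem hq)
    · intro o ho
      rw [Finset.mem_sdiff] at ho
      obtain ⟨q, rfl⟩ := (hOmem o).mp ho.1
      refine (hO₀mem _).mpr ⟨s⁻¹ * q, ?_, (hσσ s⁻¹ q e).symm⟩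
      have hq : q ∉ P₀ := fun hq => ho.2 ((hO₀mem _).mpr ⟨q, hq, rfl⟩)
      exact (Subgroup.mul_mem_iff_of_index_two hidx).mpr (iff_of_false (fun h => hsP (inv_mem_iff.mp h)) hq)
    · intro o _; rw [hσσ, inv_mul_cancel, map_one]; rfl
    · intro o _; rw [hσσ, mul_inv_cancel, map_one]; rfl
  have h12 : e₁ + e₂ = 1 := by rw [he₂', he₁, add_comm, Finset.sum_sdiff hO₀O, hf1]
  have h120 : e₁ * e₂ = 0 := by
    have := congrArg (e₁ * ·) h12
    simp only [mul_add, he₁i, mul_one] at this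
    exact add_eq_left.mp this
  have h210 : e₂ * e₁ = 0 := by rw [C.ring_comm b he₂R he₁R, h120]
  have hmove2 : σ s e₂ = e₁ := by rw [he₂, hσσ, he₁P _ hs2]
  have hsplit : ∀ v, v = e₁ v + e₂ v := fun v => by rw [← LinearMap.add_apply, h12]; rfl
  -- the adjoint
  have hadjσ : ∀ p r r', C.IsAdj r r' → C.IsAdj (σ p r) (σ p r') := by
    intro p r r' hr v w
    show C.B ((C.L (a p) * r * C.L (a p)⁻¹) v) w ↔ C.B v ((C.L (a p) * r' * C.L (a p)⁻¹) w)
    have h1 := C.isAdj_mul (C.isAdj_mul (C.isAdj_L hs (a p)) hr) (C.isAdj_L hs (a p)⁻¹) v w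
    rw [inv_inv, ← mul_assoc] at h1
    exact h1
  have he₂P : ∀ p ∈ P₀, σ p e₂ = e₂ := fun p hp => by
    haveI := Subgroup.normal_of_index_eq_two hidx
    have hc : s⁻¹ * p * s ∈ P₀ := by
      have := Subgroup.Normal.conj_mem ‹P₀.Normal› p hp s⁻¹
      rwa [inv_inv] at this
    have e' := congrArg (σ s) (he₁P _ hc)
    rw [hσσ, show s * (s⁻¹ * p * s) = p * s by group, ← hσσ] at e'
    exact e'
  obtain ⟨e', he'R, he'A⟩ := C.exists_adj b hs he₁R
  have he'i : e' * e' = e' := C.isAdj_unique hs (he₁i ▸ C.isAdj_mul he'A he'A) he'A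
  have he'P : ∀ p ∈ P₀, σ p e' = e' := fun p hp => by
    have := hadjσ p e₁ e' he'A
    rw [he₁P p hp] at this
    exact C.isAdj_unique hs this he'A
  -- on either block the adjoint is zero or one
  have hgen : ∀ g ∈ C.ring b, g * g = g → (∀ p ∈ P₀, σ p g = g) → g * e₁ = 0 ∨ g * e₁ = e₁ := by
    intro g hg hgi hgP
    rcases hprim g hg hgi with h1 | h1
    · left
      rw [he₁, Finset.mul_sum]
      refine Finset.sum_eq_zero fun x hx => ?_
      obtain ⟨p, hp, rfl⟩ := (hO₀mem x).mp hx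
      have h2 := congrArg (σ p) h1
      rw [map_mul, map_zero, hgP p hp] at h2
      rw [C.ring_comm b hg (hσR p e heR), h2]
    · right
      rw [he₁, Finset.mul_sum]
      refine Finset.sum_congr rfl fun x hx => ?_
      obtain ⟨p, hp, rfl⟩ := (hO₀mem x).mp hx
      have h2 := congrArg (σ p) h1
      rw [map_mul, hgP p hp] at h2
      rw [C.ring_comm b hg (hσR p e heR), h2]
  have hside := hgen e' he'R he'i he'P
  have hside2 : e' * e₂ = 0 ∨ e' * e₂ = e₂ := by
    have hg : σ s⁻¹ e' * e₁ = 0 ∨ σ s⁻¹ e' * e₁ = e₁ := by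
      refine hgen _ (hσR _ _ he'R) (by rw [← map_mul, he'i]) fun p hp => ?_
      haveI := Subgroup.normal_of_index_eq_two hidx
      have hc : s * p * s⁻¹ ∈ P₀ := Subgroup.Normal.conj_mem ‹P₀.Normal› p hp s
      have h2 := congrArg (σ s⁻¹) (he'P _ hc)
      rw [hσσ, show s⁻¹ * (s * p * s⁻¹) = p * s⁻¹ by group, ← hσσ] at h2
      exact h2
    rcases hg with h1 | h1
    · left
      have := congrArg (σ s) h1
      rwa [map_mul, map_zero, hσσ, mul_inv_cancel, map_one] at this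
    · right
      have := congrArg (σ s) h1
      rwa [map_mul, hσσ, mul_inv_cancel, map_one] at this
  have he'split : e' = e' * e₁ + e' * e₂ := by rw [← mul_add, h12, mul_one]
  have hz₁ : e₁ ≠ 0 := fun h0 => he0 (by
    have := hsum_e O₀ hO₀O e ((hO₀mem e).mpr ⟨1, one_mem _, by rw [map_one]; rfl⟩)
    rw [← he₁, h0, mul_zero] at this
    exact this.symm)
  have hz₂ : e₂ ≠ 0 := fun h0 => hz₁ (by rw [← hmove2, h0, map_zero])
  have hne1 : e₁ ≠ 1 := fun h0 => hz₂ (by rw [← one_mul e₂, ← h0, h120])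
  have hcase : e' = e₁ ∨ e' = e₂ := by
    rcases hside with h1 | h1 <;> rcases hside2 with h2 | h2 <;> rw [h1, h2] at he'split
    · exfalso
      rw [add_zero] at he'split
      exact hz₁ (C.isAdj_unique hs (C.isAdj_symm hs (he'split ▸ he'A)) (C.isAdj_zero hs))
    · right; rwa [zero_add] at he'split
    · left; rwa [add_zero] at he'split
    · exfalso
      rw [h12] at he'split
      exact hne1 (C.isAdj_unique hs (C.isAdj_symm hs (he'split ▸ he'A)) C.isAdj_one)
  -- the two blocks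
  have hzA : z ∈ blk e₁ := C.self_mem_pre _
  have hzB : z ∈ blk e₂ := C.self_mem_pre _
  have hinter : blk e₁ ⊓ blk e₂ ≤ Subgroup.zpowers z := fun x hx => by
    rw [← C.mk_eq_zero, ← (hblk e₂ he₂i x).mp hx.2, ← (hblk e₁ he₁i x).mp hx.1, ← Module.End.mul_apply, h210,
      LinearMap.zero_apply]
  have hPA : ∀ p ∈ P₀, ∀ x ∈ blk e₁, a p x ∈ blk e₁ := fun p hp x hx => by
    have := hblkP p e₁ x hx; rwa [he₁P p hp] at this
  have hPB : ∀ p ∈ P₀, ∀ x ∈ blk e₂, a p x ∈ blk e₂ := fun p hp x hx => by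
    have := hblkP p e₂ x hx; rwa [he₂P p hp] at this
  have hsA : ∀ x ∈ blk e₁, a s x ∈ blk e₂ := fun x hx => hblkP s e₁ x hx
  have hsB : ∀ x ∈ blk e₂, a s x ∈ blk e₁ := fun x hx => by
    have := hblkP s e₂ x hx; rwa [hmove2] at this
  rcases hcase with hc | hc <;> rw [hc] at he'A
  · have hcen : Subgroup.centralizer (blk e₁ : Set E) = blk e₂ := by
      ext x
      rw [Subgroup.mem_centralizer_iff, hblk e₂ he₂i]
      constructor
      · intro hx
        have h1 : e₁ (C.mk x) = 0 := C.B_nondeg hs fun w => by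
          obtain ⟨y, hy⟩ := C.surj (e₁ w)
          rw [he'A, ← hy, C.B_mk hs]
          exact (hx y ⟨w, hy.symm⟩).symm
        have h2 := hsplit (C.mk x)
        rw [h1, zero_add] at h2
        exact h2.symm
      · intro hx y hy
        rw [SetLike.mem_coe, hblk e₁ he₁i] at hy
        rw [← C.B_mk hs, ← hy, ← hx, he'A, ← Module.End.mul_apply, h120, LinearMap.zero_apply]
        exact C.B_zero' hs _
    have hne : blk e₁ ≠ ⊤ := fun htop => hne1 (LinearMap.ext fun v => by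
      obtain ⟨x, rfl⟩ := C.surj v
      exact (hblk e₁ he₁i x).mp (htop ▸ Subgroup.mem_top x))
    refine good_of_swap_orth h hb (blk e₁) hzA hne ?_ (hblkK _ he₁R) P₀ hidx hPA s hsP ?_ ?_
    · rw [hcen]
      exact le_antisymm hinter (le_inf (hs.zpowers_le hzA) (hs.zpowers_le hzB))
    · rw [hcen]; exact hsA
    · rw [hcen]; exact hsB
  · have hcA := he'A
    have hcB := C.isAdj_symm hs he'A
    refine good_of_swap_pair h (blk e₁) (blk e₂) hzA hzB ?_ ?_ hinter ?_ (hblkK _ he₁R) (hblkK _ he₂R)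
      P₀ hidx hPA hPB s hsP hsA hsB
    · intro x hx
      rw [Subgroup.mem_centralizer_iff]
      intro y hy
      rw [SetLike.mem_coe, hblk e₁ he₁i] at hy
      rw [hblk e₁ he₁i] at hx
      rw [← C.B_mk hs, ← hy, ← hx, hcA, ← Module.End.mul_apply, h210, LinearMap.zero_apply]
      exact C.B_zero' hs _
    · intro x hx
      rw [Subgroup.mem_centralizer_iff]
      intro y hy
      rw [SetLike.mem_coe, hblk e₂ he₂i] at hy
      rw [hblk e₂ he₂i] at hx
      rw [← C.B_mk hs, ← hy, ← hx, hcB, ← Module.End.mul_apply, h120, LinearMap.zero_apply]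
      exact C.B_zero' hs _
    · intro x
      obtain ⟨y, hy⟩ := C.surj (e₁ (C.mk x))
      refine ⟨y, ⟨C.mk x, hy.symm⟩, y⁻¹ * x, ⟨C.mk x, ?_⟩, by group⟩
      show e₂ (C.mk x) = C.mk (y⁻¹ * x)
      rw [C.mk_mul, C.mk_inv, hy]
      nth_rewrite 3 [hsplit (C.mk x)]
      rw [← add_assoc, add_self_of_zmod, zero_add]

/-- Without nontrivial idempotents the ring is a field and the 2-group acts through its Galois group. -/
theorem good_of_field (h : Hyp z a b) (hb : Below.{u} (Nat.card E)) (hbinj : Function.Injective b)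
    [Nontrivial M] (hidem : ∀ r ∈ C.ring b, r * r = r → r = 0 ∨ r = 1) : Good z a := by
  classical
  have hs := h.sym
  haveI := hs.zpowers_normal
  have hodd : Odd (Fintype.card K) := by rw [← Nat.card_eq_fintype_card]; exact h.odd
  obtain ⟨t, ht1, ht⟩ := C.exists_frobenius b hodd
  have h2t : 2 ≤ 2 ^ t := le_self_pow₀ (by norm_num) (by omega)
  have hmod : ∀ x : Module.End (ZMod 2) M, x + x = 0 := fun x => LinearMap.ext fun v => add_self_of_zmod (x v)
  have hinv : ∀ r ∈ C.ring b, r ≠ 0 → ∃ r' ∈ C.ring b, r * r' = 1 ∧ r' * r = 1 := by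
    intro r hr hr0
    refine ⟨r ^ (2 ^ t - 2), pow_mem hr _, ?_⟩
    have hi : r ^ (2 ^ t - 1) * r ^ (2 ^ t - 1) = r ^ (2 ^ t - 1) := by
      rw [← pow_add, show 2 ^ t - 1 + (2 ^ t - 1) = 2 ^ t + (2 ^ t - 2) by omega, pow_add, ht r hr, ← pow_succ',
        show 2 ^ t - 2 + 1 = 2 ^ t - 1 by omega]
    have h1 : r ^ (2 ^ t - 1) = 1 := (hidem _ (pow_mem hr _) hi).resolve_left fun e => hr0 (by
      rw [← ht r hr, show 2 ^ t = 2 ^ t - 1 + 1 by omega, pow_succ, e, zero_mul])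
    constructor
    · rw [← pow_succ', show 2 ^ t - 2 + 1 = 2 ^ t - 1 by omega, h1]
    · rw [← pow_succ, show 2 ^ t - 2 + 1 = 2 ^ t - 1 by omega, h1]
  have hmk0 : ∀ e, (∀ k, C.L (b k) (C.mk e) = C.mk e) → C.mk e = 0 := fun e he =>
    (C.mk_eq_zero e).mpr (h.fpf e fun k => by
      rw [← C.mk_eq_iff, ← C.L_mk]
      exact (he k).symm)
  have hfix : ∀ v, (∀ k, C.L.comp b k v = v) → v = 0 := fun v hv => by
    obtain ⟨e, rfl⟩ := C.surj v
    exact hmk0 e hv
  obtain ⟨g, hg⟩ := (conjOp_frobenius hodd (C.L.comp b)).2 hfix inferInstance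
  set r₀ := conjOp (C.L.comp b) g with hr₀
  set r₁ := conjOp (C.L.comp b) g⁻¹ with hr₁
  have hr₀R : r₀ ∈ C.ring b := Subring.subset_closure ⟨g, rfl⟩
  have hr₁R : r₁ ∈ C.ring b := Subring.subset_closure ⟨g⁻¹, rfl⟩
  have hadj : C.IsAdj r₀ r₁ := C.isAdj_sum hs _ _ _ fun k _ => by
    show C.IsAdj (C.L (b (k * g * k⁻¹))) (C.L (b (k * g⁻¹ * k⁻¹)))
    rw [show k * g⁻¹ * k⁻¹ = (k * g * k⁻¹)⁻¹ by group, map_inv b]
    exact C.isAdj_L hs _
  have h10 : r₁ ≠ 0 := fun e => hg (by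
    rw [e]; exact C.isAdj_unique hs (C.isAdj_symm hs (e ▸ hadj)) (C.isAdj_zero hs))
  have h00 : r₀ ≠ 0 := fun e => h10 (C.isAdj_unique hs (e ▸ hadj) (C.isAdj_zero hs))
  obtain ⟨u, huR, hu1, hu2⟩ := hinv r₁ hr₁R h10
  obtain ⟨w, hwR, hw1, hw2⟩ := hinv r₀ hr₀R h00
  obtain ⟨u', hu'R, hu'A⟩ := C.exists_adj b hs huR
  set x₀ := r₀ * u with hx₀
  have hx₀R : x₀ ∈ C.ring b := mul_mem hr₀R huR
  have hx₀A : C.IsAdj x₀ (u' * r₁) := C.isAdj_mul hadj hu'A
  have hu'w : u' * r₀ = 1 := by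
    have h1 : C.IsAdj (r₁ * u) (u' * r₀) := C.isAdj_mul (C.isAdj_symm hs hadj) hu'A
    rw [hu1] at h1
    exact C.isAdj_unique hs h1 C.isAdj_one
  have hunit : u' * r₁ * x₀ = 1 := by
    rw [hx₀, mul_assoc u', ← mul_assoc r₁, C.ring_comm b hr₁R hr₀R, mul_assoc r₀, hu1, mul_one, hu'w]
  have hunit' : x₀ * (u' * r₁) = 1 := by
    rw [C.ring_comm b hx₀R (mul_mem hu'R hr₁R), hunit]
  have hx₀1 : x₀ ≠ 1 := fun e => hg (by
    calc r₀ = r₀ * (r₁ * u) := by rw [hu1, mul_one]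
      _ = r₀ * u * r₁ := by rw [C.ring_comm b hr₁R huR, mul_assoc]
      _ = r₁ := by rw [← hx₀, e, one_mul])
  -- lift
  let q : E → E ⧸ Subgroup.zpowers z := QuotientGroup.mk
  choose sec hsec using fun v : M => C.surj v
  have hsecq : ∀ e, q (sec (C.mk e)) = q e := fun e => (C.mk_qeq _ _).mp (hsec _)
  have hmkout : ∀ v : E ⧸ Subgroup.zpowers z, q v.out = v := fun v => QuotientGroup.out_eq' v
  let θ : (E ⧸ Subgroup.zpowers z) ≃* (E ⧸ Subgroup.zpowers z) :=
    { toFun := fun v => q (sec (x₀ (C.mk v.out)))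
      invFun := fun v => q (sec ((u' * r₁) (C.mk v.out)))
      left_inv := fun v => by
        show q (sec ((u' * r₁) (C.mk (q (sec (x₀ (C.mk v.out)))).out))) = v
        rw [(C.mk_qeq _ _).mpr (hmkout _), hsec, ← Module.End.mul_apply, hunit, Module.End.one_apply, hsecq, hmkout]
      right_inv := fun v => by
        show q (sec (x₀ (C.mk (q (sec ((u' * r₁) (C.mk v.out)))).out))) = v
        rw [(C.mk_qeq _ _).mpr (hmkout _), hsec, ← Module.End.mul_apply, hunit', Module.End.one_apply, hsecq, hmkout]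
      map_mul' := fun v w => by
        show q (sec (x₀ (C.mk (v * w).out))) = q (sec (x₀ (C.mk v.out))) * q (sec (x₀ (C.mk w.out)))
        rw [(C.mk_qeq _ _).mpr (show q (v * w).out = q (v.out * w.out) by
          rw [hmkout]; show v * w = q v.out * q w.out; rw [hmkout, hmkout]), C.mk_mul, map_add]
        show _ = q (sec (x₀ (C.mk v.out)) * sec (x₀ (C.mk w.out)))
        apply (C.mk_qeq _ _).mp
        rw [hsec, C.mk_mul, hsec, hsec] }
  have hθ : ∀ e f : E, q f = θ (q e) ↔ C.mk f = x₀ (C.mk e) := fun e f => by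
    show q f = q (sec (x₀ (C.mk (q e).out))) ↔ _
    rw [← C.mk_qeq, hsec, (C.mk_qeq _ _).mpr (hmkout (q e))]
  have hBq : ∀ e f : E, Orth z (q e) (q f) ↔ C.B (C.mk e) (C.mk f) := fun e f => by
    rw [orth_mk hs, C.B_mk hs]
  obtain ⟨φ, hφ1, hφK⟩ := exists_lift hs h.odd h.fpf θ (fun v w => by
      obtain ⟨e, rfl⟩ := QuotientGroup.mk_surjective v
      obtain ⟨f, rfl⟩ := QuotientGroup.mk_surjective w
      obtain ⟨e', he'⟩ := QuotientGroup.mk_surjective (θ (e : E ⧸ Subgroup.zpowers z))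
      obtain ⟨f', hf'⟩ := QuotientGroup.mk_surjective (θ (f : E ⧸ Subgroup.zpowers z))
      rw [← he', ← hf', hBq, hBq, (hθ e e').mp he', (hθ f f').mp hf', hx₀A, ← Module.End.mul_apply, hunit,
        Module.End.one_apply])
    (fun k e f hf => by
      refine (hθ (b k e) (b k f)).mpr ?_
      rw [← C.L_mk, ← C.L_mk, (hθ e f).mp hf]
      exact congrArg (fun T : Module.End (ZMod 2) M => T (C.mk e)) (C.commute_L b hx₀R k))
  have hLext : ∀ (ψ : MulAut E) (r : Module.End (ZMod 2) M), (∀ e, C.mk (ψ e) = r (C.mk e)) → C.L ψ = r :=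
    fun ψ r hr => LinearMap.ext fun v => by
      obtain ⟨e, rfl⟩ := C.surj v
      rw [C.L_mk, hr]
  have hLφ : C.L φ = x₀ := hLext φ x₀ fun e => (hθ e (φ e)).mp (hφ1 e)
  -- the new operators
  let X : Subgroup (MulAut E) :=
    { carrier := {ψ | (∀ k e, ψ (b k e) = b k (ψ e)) ∧ C.L ψ ∈ C.ring b}
      one_mem' := ⟨fun k e => rfl, by rw [map_one]; exact one_mem _⟩
      mul_mem' := fun {ψ ψ'} hψ hψ' => ⟨fun k e => by
          rw [MulAut.mul_apply, hψ'.1, hψ.1]; rfl, by rw [map_mul]; exact mul_mem hψ.2 hψ'.2⟩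
      inv_mem' := fun {ψ} hψ => ⟨fun k e => by
          apply ψ.injective
          rw [hψ.1, MulAut.apply_inv_self, MulAut.apply_inv_self], by
          obtain ⟨r', hr', hr'A⟩ := C.exists_adj b hs hψ.2
          rw [← C.isAdj_unique hs hr'A (C.isAdj_L hs ψ)]; exact hr'⟩ }
  have hXone : ∀ ψ ∈ X, C.L ψ = 1 → ψ = 1 := fun ψ hψ e1 => lift_unique hs h.fpf
    (fun e => (C.mk_qeq _ _).mp (by rw [← C.L_mk, e1]; rfl)) hψ.1 fun k e => rfl
  have hXodd : Odd (Nat.card X) := by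
    rw [← Nat.not_even_iff_odd, even_iff_two_dvd]
    intro hdvd
    haveI : Fact (Nat.Prime 2) := ⟨Nat.prime_two⟩
    obtain ⟨⟨ψ, hψ⟩, hord⟩ := exists_prime_orderOf_dvd_card' 2 hdvd
    have h1 : C.L ψ = 1 := by
      by_contra hne
      have hne0 : C.L ψ + 1 ≠ 0 := fun e => hne (by
        calc C.L ψ = C.L ψ + (1 + 1) := by rw [hmod, add_zero]
          _ = 1 := by rw [← add_assoc, e, zero_add])
      obtain ⟨v, hvR, hv1, hv2⟩ := hinv _ (add_mem hψ.2 (one_mem _)) hne0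
      have hsq : C.L ψ * C.L ψ = 1 := by
        have := pow_orderOf_eq_one (⟨ψ, hψ⟩ : X)
        rw [hord, pow_two] at this
        rw [← map_mul, show ψ * ψ = 1 from congrArg Subtype.val this, map_one]
      have h0 : (C.L ψ + 1) * (C.L ψ + 1) = 0 := by
        rw [add_mul, mul_add, one_mul, mul_one, hsq, add_comm 1 (C.L ψ), hmod]
      refine hne0 ?_
      calc C.L ψ + 1 = v * ((C.L ψ + 1) * (C.L ψ + 1)) := by rw [← mul_assoc, hv2, one_mul]
        _ = 0 := by rw [h0, mul_zero]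
    have h2 : (⟨ψ, hψ⟩ : X) = 1 := Subtype.ext (hXone ψ hψ h1)
    rw [h2, orderOf_one] at hord
    omega
  have hφX : φ ∈ X := ⟨hφK, hLφ ▸ hx₀R⟩
  have hXfix : ∀ e, (∀ ψ : X, e⁻¹ * X.subtype ψ e ∈ Subgroup.zpowers z) → e ∈ Subgroup.zpowers z := by
    intro e he
    have h1 := he ⟨φ, hφX⟩
    rw [Subgroup.coe_subtype, ← C.mk_eq_iff, ← C.L_mk, hLφ] at h1
    have hne : x₀ + 1 ≠ 0 := fun e0 => hx₀1 (by
      calc x₀ = x₀ + (1 + 1) := by rw [hmod, add_zero]
        _ = 1 := by rw [← add_assoc, e0, zero_add])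
    obtain ⟨v, hvR, hv1, hv2⟩ := hinv _ (add_mem hx₀R (one_mem _)) hne
    rw [← C.mk_eq_zero]
    calc C.mk e = (v * (x₀ + 1)) (C.mk e) := by rw [hv2]; rfl
      _ = 0 := by
        rw [Module.End.mul_apply, LinearMap.add_apply, Module.End.one_apply, ← h1, add_self_of_zmod, map_zero]
  have hσR : ∀ p, ∀ r ∈ C.ring b, C.conj (a p) r ∈ C.ring b := fun p r hr =>
    C.conj_mem hbinj (a p) (h.conj_b p) hr
  have hconjX : ∀ p : P, ∀ ψ ∈ X, a p * ψ * (a p)⁻¹ ∈ X := by
    intro p ψ hψ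
    refine ⟨fun k e => ?_, ?_⟩
    · obtain ⟨k', hk'⟩ := h.conj_b p⁻¹ k
      rw [map_inv, inv_inv] at hk'
      have hc : ψ * b k' = b k' * ψ := MulEquiv.ext fun e => hψ.1 k' e
      have hk : b k = a p * b k' * (a p)⁻¹ := by rw [← hk']; group
      show (a p * ψ * (a p)⁻¹) (b k e) = b k ((a p * ψ * (a p)⁻¹) e)
      rw [← MulAut.mul_apply, ← MulAut.mul_apply]
      congr 1
      rw [hk]
      calc a p * ψ * (a p)⁻¹ * (a p * b k' * (a p)⁻¹) = a p * (ψ * b k') * (a p)⁻¹ := by group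
        _ = a p * (b k' * ψ) * (a p)⁻¹ := by rw [hc]
        _ = _ := by group
    · rw [map_mul, map_mul]; exact hσR p _ hψ.2
  have hypX : Hyp z a X.subtype := ⟨hs, h.pP, hXodd, fun p ψ => ⟨⟨_, hconjX p ψ ψ.2⟩, fun e => by
    show a p ((ψ : MulAut E) e) = (a p * (ψ : MulAut E) * (a p)⁻¹) (a p e)
    rw [MulAut.mul_apply, MulAut.mul_apply, MulAut.inv_apply_self]⟩, hXfix⟩
  -- the action on the field
  let Φ : P →* RingAut (C.ring b) :=
    { toFun := fun p =>
        { toFun := fun r => ⟨C.conj (a p) r, hσR p r r.2⟩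
          invFun := fun r => ⟨C.conj (a p⁻¹) r, hσR _ r r.2⟩
          left_inv := fun r => Subtype.ext (by
            show C.conj (a p⁻¹) (C.conj (a p) r) = r
            rw [← RingAut.mul_apply, ← map_mul, ← map_mul, inv_mul_cancel, map_one, map_one]; rfl)
          right_inv := fun r => Subtype.ext (by
            show C.conj (a p) (C.conj (a p⁻¹) r) = r
            rw [← RingAut.mul_apply, ← map_mul, ← map_mul, mul_inv_cancel, map_one, map_one]; rfl)
          map_mul' := fun r r' => Subtype.ext (map_mul (C.conj (a p)) (r : Module.End (ZMod 2) M) r')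
          map_add' := fun r r' => Subtype.ext (map_add (C.conj (a p)) (r : Module.End (ZMod 2) M) r') }
      map_one' := RingEquiv.ext fun r => Subtype.ext (by
        show C.conj (a 1) (r : Module.End (ZMod 2) M) = r
        rw [map_one, map_one]; rfl)
      map_mul' := fun p p' => RingEquiv.ext fun r => Subtype.ext (by
        show C.conj (a (p * p')) (r : Module.End (ZMod 2) M) = C.conj (a p) (C.conj (a p') r)
        rw [map_mul, map_mul]; rfl) }
  set P₀ := Φ.ker with hP₀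
  haveI : P₀.Normal := MonoidHom.normal_ker Φ
  let A : Subgroup E :=
    { carrier := {e | ∀ p ∈ P₀, C.L (a p) (C.mk e) = C.mk e}
      one_mem' := fun p _ => by rw [C.mk_one, map_zero]
      mul_mem' := fun {x y} hx hy p hp => by rw [C.mk_mul, map_add, hx p hp, hy p hp]
      inv_mem' := fun {x} hx p hp => by rw [C.mk_inv, hx p hp] }
  have hzA : z ∈ A := fun p _ => by rw [(C.mk_eq_zero z).mpr (Subgroup.mem_zpowers z), map_zero]
  have hAP : ∀ p, ∀ e ∈ A, a p e ∈ A := by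
    intro p e he p₀ hp₀
    have hc : p⁻¹ * p₀ * p ∈ P₀ := by
      have := Subgroup.Normal.conj_mem ‹P₀.Normal› p₀ hp₀ p⁻¹
      rwa [inv_inv] at this
    have h1 := congrArg (C.L (a p)) (he _ hc)
    rw [← Module.End.mul_apply, ← map_mul, ← map_mul, show p * (p⁻¹ * p₀ * p) = p₀ * p by group,
      map_mul, map_mul, Module.End.mul_apply, C.L_mk] at h1
    exact h1
  have hcomm0 : ∀ p ∈ P₀, ∀ r ∈ C.ring b, C.L (a p) * r = r * C.L (a p) := by
    intro p hp r hr
    have h1 : C.L (a p) * r * C.L (a p)⁻¹ = r :=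
      congrArg Subtype.val (RingEquiv.congr_fun (MonoidHom.mem_ker.mp hp) ⟨r, hr⟩)
    conv_rhs => rw [← h1]
    rw [mul_assoc, ← map_mul, inv_mul_cancel, map_one, mul_one]
  have hAX : ∀ ψ : X, ∀ e ∈ A, X.subtype ψ e ∈ A := by
    intro ψ e he p hp
    show C.L (a p) (C.mk ((ψ : MulAut E) e)) = C.mk ((ψ : MulAut E) e)
    rw [← C.L_mk (ψ : MulAut E), ← Module.End.mul_apply, hcomm0 p hp _ ψ.2.2, Module.End.mul_apply, he p hp]
  have hne : A ≠ Subgroup.zpowers z := by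
    letI : MulAction P₀ M :=
      { smul := fun p v => C.L (a p) v
        one_smul := fun v => by show C.L (a (1 : P₀)) v = v; rw [Subgroup.coe_one, map_one, map_one]; rfl
        mul_smul := fun p p' v => by
          show C.L (a (p * p' : P₀)) v = C.L (a p) (C.L (a p') v)
          rw [Subgroup.coe_mul, map_mul, map_mul]; rfl }
    haveI : Fact (Nat.Prime 2) := ⟨Nat.prime_two⟩
    obtain ⟨v, hv⟩ := exists_ne (0 : M)
    have h2 : 2 ∣ Nat.card M := by
      have : addOrderOf v = 2 := addOrderOf_eq_prime (by rw [two_nsmul, add_self_of_zmod]) hv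
      rw [← this]
      exact addOrderOf_dvd_natCard v
    obtain ⟨w', hw', hw0⟩ := (h.pP.to_subgroup P₀).exists_fixed_point_of_prime_dvd_card_of_fixed_point M h2
      (a := (0 : M)) (MulAction.mem_fixedPoints.mpr fun p => map_zero (C.L (a (p : P))))
    obtain ⟨e, rfl⟩ := C.surj w'
    intro hA
    have he : e ∈ A := fun p hp => MulAction.mem_fixedPoints.mp hw' ⟨p, hp⟩
    rw [hA, ← C.mk_eq_zero] at he
    exact hw0 he.symm
  by_cases hA : A = ⊤
  swap
  · exact good_of_invariant hypX hb A hzA hne hA hAP hAX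
  -- the kernel acts trivially
  have hker : P₀ ≤ a.ker := by
    intro p hp
    have hL : C.L (a p) = 1 := hLext _ 1 fun e => by
      rw [← C.L_mk]; exact (hA.ge (Subgroup.mem_top e) : e ∈ A) p hp
    have hL' : C.L (a p)⁻¹ = 1 := by
      have h1 := congrArg C.L (inv_mul_cancel (a p))
      rwa [map_mul, hL, mul_one, map_one] at h1
    have hcb : ∀ k, a p * b k * (a p)⁻¹ = b k := by
      intro k
      refine lift_unique hs hXfix (fun e => (C.mk_qeq _ _).mp ?_) (fun ψ e => ?_)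
        (fun ψ e => (ψ.2.1 k e).symm)
      · rw [← C.L_mk, ← C.L_mk, map_mul, map_mul, hL, hL', one_mul, mul_one]
      · have hψ' := hconjX p⁻¹ (ψ : MulAut E) ψ.2
        rw [map_inv, inv_inv] at hψ'
        have hc : b k * ((a p)⁻¹ * (ψ : MulAut E) * a p) = (a p)⁻¹ * (ψ : MulAut E) * a p * b k :=
          MulEquiv.ext fun e => (hψ'.1 k e).symm
        show (a p * b k * (a p)⁻¹) ((ψ : MulAut E) e) = (ψ : MulAut E) ((a p * b k * (a p)⁻¹) e)
        rw [← MulAut.mul_apply, ← MulAut.mul_apply]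
        congr 1
        calc a p * b k * (a p)⁻¹ * (ψ : MulAut E)
            = a p * (b k * ((a p)⁻¹ * (ψ : MulAut E) * a p)) * (a p)⁻¹ := by group
          _ = a p * ((a p)⁻¹ * (ψ : MulAut E) * a p * b k) * (a p)⁻¹ := by rw [hc]
          _ = (ψ : MulAut E) * (a p * b k * (a p)⁻¹) := by group
    refine MonoidHom.mem_ker.mpr (lift_unique hs h.fpf (fun e => (C.mk_qeq _ _).mp ?_) (fun k e => ?_)
      (fun k e => rfl))
    · rw [← C.L_mk, hL]; rfl
    · rw [← MulAut.mul_apply, ← MulAut.mul_apply, ← mul_inv_eq_iff_eq_mul.mp (hcb k)]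
  -- the ring is a field
  letI : CommRing (C.ring b) :=
    { (inferInstance : Ring (C.ring b)) with mul_comm := fun r r' => Subtype.ext (C.ring_comm b r.2 r'.2) }
  haveI : Nontrivial (C.ring b) := ⟨0, 1, fun e => zero_ne_one (congrArg Subtype.val e)⟩
  have hF : IsField (C.ring b) := ⟨⟨0, 1, zero_ne_one⟩, fun r r' => mul_comm r r', fun {r} hr => by
    obtain ⟨r', hr', h1, -⟩ := hinv r r.2 fun e => hr (Subtype.ext e)
    exact ⟨⟨r', hr'⟩, Subtype.ext h1⟩⟩
  letI := hF.toField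
  haveI : Finite (Module.End (ZMod 2) M) := Finite.of_injective _ DFunLike.coe_injective
  haveI : Finite (C.ring b) := Subtype.finite
  haveI := Fintype.ofFinite (C.ring b)
  haveI := ringChar.charP (C.ring b)
  obtain ⟨n, hp, hn⟩ := FiniteField.card (C.ring b) (ringChar (C.ring b))
  haveI : Fact (ringChar (C.ring b)).Prime := ⟨hp⟩
  haveI : IsCyclic (RingAut (C.ring b)) := (CfsgLib.Known.AutPSL.card_ringAut hn n.pos).2
  haveI : IsCyclic (P ⧸ Φ.ker) :=
    isCyclic_of_surjective _ (QuotientGroup.quotientKerEquivRange Φ).symm.surjective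
  refine good_of_cyclic hs (isCyclic_of_surjective (QuotientGroup.lift Φ.ker a.rangeRestrict ?_) ?_)
  · intro p hp
    rw [MonoidHom.mem_ker]
    exact Subtype.ext (MonoidHom.mem_ker.mp (hker hp))
  · rintro ⟨_, p, rfl⟩
    exact ⟨(p : P ⧸ Φ.ker), rfl⟩

end CfsgLib.SpinExt
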