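import Cfsg.Agent.Lib.LocalEven.SpinExt.Blocks
import Mathlib.GroupTheory.SpecificGroups.Cyclic

/-!
Lifting isometries of `E/⟨z⟩` commuting with the operators, and the cyclic case.
-/

set_option autoImplicit false
set_option linter.all false

namespace CfsgLib.SpinExt

open Module

universe u

variable {E : Type u} [Group E] {z : E}

/-- Two cosets of `⟨z⟩` commute. -/
def Orth (z : E) (v w : E ⧸ Subgroup.zpowers z) : Prop :=
  ∀ x y : E, (x : E ⧸ Subgroup.zpowers z) = v → (y : E ⧸ Subgroup.zpowers z) = w → x * y = y * x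

theorem IsSympl.zpowers_normal (hs : IsSympl z) : (Subgroup.zpowers z).Normal :=
  hs.normal_of_mem (Subgroup.mem_zpowers z)

theorem IsSympl.mk_eq (hs : IsSympl z) {x y : E} :
    (x : E ⧸ Subgroup.zpowers z) = y ↔ y = x ∨ y = x * z := by
  rw [QuotientGroup.eq, hs.mem_zpowers, inv_mul_eq_one, inv_mul_eq_iff_eq_mul, eq_comm]

theorem orth_mk (hs : IsSympl z) (x y : E) :
    Orth z (x : E ⧸ Subgroup.zpowers z) (y : E ⧸ Subgroup.zpowers z) ↔ x * y = y * x := by
  refine ⟨fun h => h x y rfl rfl, fun h x' y' hx hy => ?_⟩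
  have hc : ∀ c d : E, (c * d = d * c) → c * z * d = d * (c * z) := fun c d e => by
    rw [mul_assoc, hs.central, ← mul_assoc, e, mul_assoc]
  rcases hs.mk_eq.mp hx.symm with e | e <;> rcases hs.mk_eq.mp hy.symm with e' | e' <;> rw [e, e']
  · exact h
  · exact (hc y x h.symm).symm
  · exact hc x y h
  · exact hc x (y * z) (hc y x h.symm).symm

theorem orth_symm {v w : E ⧸ Subgroup.zpowers z} : Orth z v w ↔ Orth z w v :=
  ⟨fun h x y hx hy => (h y x hy hx).symm, fun h x y hx hy => (h y x hy hx).symm⟩

variable [Finite E]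

/-- No proper subgroup of index two containing `z` is invariant. -/
theorem invariant_index_two {K : Type*} [Group K] {b : K →* MulAut E} (hs : IsSympl z)
    (hfpf : ∀ e, (∀ k, e⁻¹ * b k e ∈ Subgroup.zpowers z) → e ∈ Subgroup.zpowers z)
    (N : Subgroup E) (hzN : z ∈ N) (hK : ∀ k, ∀ e ∈ N, b k e ∈ N)
    (h2 : ∀ x y, x ∉ N → y ∉ N → x * y ∈ N) : N = ⊤ := by
  classical
  by_contra hN
  obtain ⟨x₀, hx₀⟩ : ∃ x₀, x₀ ∉ N := by
    by_contra hc; push Not at hc; exact hN (eq_top_iff.mpr fun x _ => hc x)
  have hidx : N.index = 2 := Subgroup.index_eq_two_iff.mpr ⟨x₀, fun y => by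
    by_cases hy : y ∈ N
    · exact Or.inr ⟨hy, fun hc => hx₀ ((Subgroup.mul_mem_cancel_left N hy).mp hc)⟩
    · exact Or.inl ⟨h2 y x₀ hy hx₀, hy⟩⟩
  have hcard := hs.card_mul_card_centralizer hzN
  set C := Subgroup.centralizer (N : Set E) with hC
  have hCcard : Nat.card C = 4 := by
    rw [← Subgroup.card_mul_index N, hidx] at hcard
    exact Nat.eq_of_mul_eq_mul_left (Nat.card_pos (α := N)) (by linarith)
  have hzC : z ∈ C := Subgroup.mem_centralizer_iff.mpr fun x _ => (hs.central x).symm
  obtain ⟨c, hcC, hc⟩ : ∃ c ∈ C, c ∉ Subgroup.zpowers z := by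
    by_contra hcon
    push Not at hcon
    have := Subgroup.card_le_of_le (fun c hc => hcon c hc : C ≤ Subgroup.zpowers z)
    rw [hs.card_zpowers, hCcard] at this
    omega
  refine hc (hfpf c fun k => ?_)
  have hkC : b k c ∈ C := centralizer_stable b hK k c hcC
  by_contra hk
  -- otherwise five elements in a group of order four
  have hbz : b k c ∉ Subgroup.zpowers z := fun h => hc (by
    rcases hs.mem_zpowers.mp h with e | e
    · rw [(map_eq_one_iff _ (b k).injective).mp e]; exact one_mem _
    · rw [show c = z from (b k).injective (e.trans (hs.map_z _).symm)]; exact Subgroup.mem_zpowers _)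
  rw [hs.mem_zpowers] at hk hbz hc
  push Not at hk hbz hc
  have hsub : ({1, z, c, c * z, b k c} : Finset E).card = 5 := by
    have h1 : c * z ≠ 1 := fun e => hc.2 (by rw [← hs.mul_z_mul_z c, e, one_mul])
    have h2 : c * z ≠ z := fun e => hc.1 (mul_eq_right.mp e)
    have h3 : b k c ≠ c := fun e => hk.1 (by rw [e, inv_mul_cancel])
    have h4 : b k c ≠ c * z := fun e => hk.2 (by rw [e, inv_mul_cancel_left])
    have h5 : c ≠ c * z := fun e => hs.ne (mul_eq_left.mp e.symm)
    simp [hs.ne.symm, hc.1.symm, hc.2.symm, h1.symm, h2.symm, hbz.1.symm, hbz.2.symm, h3.symm, h4.symm, h5]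
  have hle := Finset.card_le_card (s := ({1, z, c, c * z, b k c} : Finset E))
    (t := (Set.toFinite (C : Set E)).toFinset) (fun x hx => by
      rw [Set.Finite.mem_toFinset, SetLike.mem_coe]
      simp only [Finset.mem_insert, Finset.mem_singleton] at hx
      rcases hx with rfl | rfl | rfl | rfl | rfl
      exacts [one_mem _, hzC, hcC, mul_mem hcC hzC, hkC])
  rw [hsub, ← Set.ncard_eq_toFinset_card _ (Set.toFinite (C : Set E)), ← Nat.card_coe_set_eq] at hle
  exact absurd (hle.trans hCcard.le) (by norm_num)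

theorem lift_unique {K : Type*} [Group K] {b : K →* MulAut E} (hs : IsSympl z)
    (hfpf : ∀ e, (∀ k, e⁻¹ * b k e ∈ Subgroup.zpowers z) → e ∈ Subgroup.zpowers z)
    {φ ψ : MulAut E} (hmk : ∀ e, (φ e : E ⧸ Subgroup.zpowers z) = (ψ e : E ⧸ Subgroup.zpowers z))
    (hφ : ∀ k e, φ (b k e) = b k (φ e)) (hψ : ∀ k e, ψ (b k e) = b k (ψ e)) : φ = ψ := by
  let N : Subgroup E :=
    { carrier := {e | φ e = ψ e}
      one_mem' := by simp
      mul_mem' := fun {x y} (hx : φ x = ψ x) (hy : φ y = ψ y) => show φ (x * y) = ψ (x * y) by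
        rw [map_mul, map_mul, hx, hy]
      inv_mem' := fun {x} (hx : φ x = ψ x) => show φ x⁻¹ = ψ x⁻¹ by rw [map_inv, map_inv, hx] }
  have hN := invariant_index_two hs hfpf N (show φ z = ψ z by rw [hs.map_z, hs.map_z])
    (fun k e (he : φ e = ψ e) => show φ (b k e) = ψ (b k e) by rw [hφ, hψ, he]) fun x y hx hy => by
      have ex := (hs.mk_eq.mp (hmk x)).resolve_left fun e => hx e.symm
      have ey := (hs.mk_eq.mp (hmk y)).resolve_left fun e => hy e.symm
      show φ (x * y) = ψ (x * y)
      rw [map_mul, map_mul, ex, ey]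
      calc φ x * φ y = φ x * φ y * (z * z) := by rw [hs.sq, mul_one]
        _ = φ x * (φ y * z) * z := by group
        _ = φ x * (z * φ y) * z := by rw [hs.central]
        _ = φ x * z * (φ y * z) := by group
  exact MulEquiv.ext fun e => (hN.ge (Subgroup.mem_top e) : e ∈ N)

/-- An isometry of the quotient commuting with the operators has a lift commuting with them. -/
theorem exists_lift {K : Type u} [Group K] [Finite K] {b : K →* MulAut E} (hs : IsSympl z)
    (hodd : Odd (Nat.card K))
    (hfpf : ∀ e, (∀ k, e⁻¹ * b k e ∈ Subgroup.zpowers z) → e ∈ Subgroup.zpowers z)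
    [(Subgroup.zpowers z).Normal] (θ : (E ⧸ Subgroup.zpowers z) ≃* (E ⧸ Subgroup.zpowers z))
    (hO : ∀ v w, Orth z (θ v) (θ w) ↔ Orth z v w)
    (hK : ∀ (k : K) (e f : E), (f : E ⧸ Subgroup.zpowers z) = θ e →
      (b k f : E ⧸ Subgroup.zpowers z) = θ (b k e : E)) :
    ∃ φ : MulAut E, (∀ e, (φ e : E ⧸ Subgroup.zpowers z) = θ e) ∧ ∀ k e, φ (b k e) = b k (φ e) := by
  classical
  -- lifts have the same squares
  have hsqz : ∀ x : E, x * z * (x * z) = x * x := fun x => by
    calc x * z * (x * z) = x * (z * x) * z := by group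
      _ = x * (x * z) * z := by rw [hs.central]
      _ = x * x * (z * z) := by group
      _ = x * x := by rw [hs.sq, mul_one]
  have hlift_sq : ∀ f f' : E, (f : E ⧸ Subgroup.zpowers z) = f' → f' * f' = f * f := by
    intro f f' h
    rcases hs.mk_eq.mp h with rfl | rfl
    · rfl
    · exact hsqz f
  have hsquare : ∀ e f : E, (f : E ⧸ Subgroup.zpowers z) = θ e → f * f = e * e := by
    let N : Subgroup E :=
      { carrier := {e | ∀ f : E, (f : E ⧸ Subgroup.zpowers z) = θ e → f * f = e * e}
        one_mem' := fun f hf => by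
          rw [QuotientGroup.mk_one, map_one, ← QuotientGroup.mk_one] at hf
          rw [hlift_sq 1 f hf.symm]
        mul_mem' := fun {x y} hx hy f hf => by
          obtain ⟨x', hx'⟩ := QuotientGroup.mk_surjective (θ (x : E ⧸ Subgroup.zpowers z))
          obtain ⟨y', hy'⟩ := QuotientGroup.mk_surjective (θ (y : E ⧸ Subgroup.zpowers z))
          have hf' : (f : E ⧸ Subgroup.zpowers z) = ((x' * y' : E) : E ⧸ Subgroup.zpowers z) := by
            rw [hf, QuotientGroup.mk_mul, QuotientGroup.mk_mul, map_mul, hx', hy']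
          rw [← hlift_sq f _ hf']
          have hcomm : x' * y' = y' * x' ↔ x * y = y * x := by
            rw [← orth_mk hs, ← orth_mk hs, hx', hy', hO]
          have key : ∀ a c : E, (a * c = c * a → a * c * (a * c) = a * a * (c * c)) ∧
              (a * c ≠ c * a → a * c * (a * c) = a * a * (c * c) * z) := by
            intro a c
            refine ⟨fun e => ?_, fun e => ?_⟩
            · calc a * c * (a * c) = a * (c * a) * c := by group
                _ = a * (a * c) * c := by rw [e]
                _ = a * a * (c * c) := by group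
            · have h1 := (hs.comm c a).resolve_left fun e' => e e'.symm
              calc a * c * (a * c) = a * (c * a) * c := by group
                _ = a * (a * c * z) * c := by rw [h1]
                _ = a * a * c * (z * c) := by group
                _ = a * a * c * (c * z) := by rw [hs.central]
                _ = a * a * (c * c) * z := by group
          by_cases hxy : x * y = y * x
          · rw [(key x' y').1 (hcomm.mpr hxy), (key x y).1 hxy, hx x' hx', hy y' hy']
          · rw [(key x' y').2 (fun e => hxy (hcomm.mp e)), (key x y).2 hxy, hx x' hx', hy y' hy']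
        inv_mem' := fun {x} hx f hf => by
          have := hx f⁻¹ (by rw [QuotientGroup.mk_inv, hf, ← map_inv, ← QuotientGroup.mk_inv, inv_inv])
          rw [← inv_inj, mul_inv_rev, mul_inv_rev, inv_inv, this] }
    have hzN : z ∈ N := fun f hf => by
      rw [(QuotientGroup.eq_one_iff z).mpr (Subgroup.mem_zpowers z), map_one, ← QuotientGroup.mk_one] at hf
      rw [hlift_sq 1 f hf.symm, one_mul, hs.sq]
    have hN := invariant_index_two hs hfpf N hzN
      (fun k e he f hf => by
        obtain ⟨e', he'⟩ := QuotientGroup.mk_surjective (θ (e : E ⧸ Subgroup.zpowers z))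
        rw [hlift_sq _ f ((hK k e e' he').trans hf.symm), ← map_mul, ← map_mul, he e' he'])
      fun x y hx hy f hf => ?_
    · exact fun e f hf => (hN.ge (Subgroup.mem_top e) : e ∈ N) f hf
    obtain ⟨x', hx'⟩ := QuotientGroup.mk_surjective (θ (x : E ⧸ Subgroup.zpowers z))
    obtain ⟨y', hy'⟩ := QuotientGroup.mk_surjective (θ (y : E ⧸ Subgroup.zpowers z))
    have hf' : (f : E ⧸ Subgroup.zpowers z) = ((x' * y' : E) : E ⧸ Subgroup.zpowers z) := by
      rw [hf, QuotientGroup.mk_mul, QuotientGroup.mk_mul, map_mul, hx', hy']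
    rw [← hlift_sq f _ hf']
    have hbad : ∀ a a' : E, (a' : E ⧸ Subgroup.zpowers z) = θ a → a ∉ N → a' * a' = a * a * z := by
      intro a a' ha hna
      have hne : a' * a' ≠ a * a := fun e => hna fun g hg => by
        rw [hlift_sq a' g (ha.trans hg.symm), e]
      rcases hs.square a with e | e <;> rcases hs.square a' with e' | e'
      · exact absurd (e'.trans e.symm) hne
      · rw [e, e', one_mul]
      · rw [e, e', hs.sq]
      · exact absurd (e'.trans e.symm) hne
    have ex := hbad x x' hx' hx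
    have ey := hbad y y' hy' hy
    have hcomm : x' * y' = y' * x' ↔ x * y = y * x := by rw [← orth_mk hs, ← orth_mk hs, hx', hy', hO]
    rcases hs.comm y x with e | e
    · calc x' * y' * (x' * y') = x' * (y' * x') * y' := by group
        _ = x' * (x' * y') * y' := by rw [hcomm.mpr e.symm]
        _ = x' * x' * (y' * y') := by group
        _ = x * x * z * (y * y * z) := by rw [ex, ey]
        _ = x * x * (z * (y * y)) * z := by group
        _ = x * x * (y * y * z) * z := by rw [hs.central]
        _ = x * x * (y * y) * (z * z) := by group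
        _ = x * (x * y) * y := by rw [hs.sq, mul_one]; group
        _ = x * (y * x) * y := by rw [e]
        _ = x * y * (x * y) := by group
    · have e' : y' * x' = x' * y' * z := (hs.comm y' x').resolve_left fun e1 =>
        hs.ne (by
          have := (hcomm.mp e1.symm).symm
          rw [this, eq_comm, mul_eq_left] at e
          exact e)
      calc x' * y' * (x' * y') = x' * (y' * x') * y' := by group
        _ = x' * x' * y' * (z * y') := by rw [e']; group
        _ = x' * x' * (y' * y') * z := by rw [hs.central y']; group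
        _ = x * x * z * (y * y * z) * z := by rw [ex, ey]
        _ = x * x * (z * (y * y)) * (z * z) := by group
        _ = x * x * (y * y * z) := by rw [hs.central (y * y), hs.sq, mul_one]
        _ = x * x * y * (y * z) := by group
        _ = x * x * y * (z * y) := by rw [hs.central y]
        _ = x * (x * y * z) * y := by group
        _ = x * (y * x) * y := by rw [e]
        _ = x * y * (x * y) := by group
  -- the graph
  let Γ : Subgroup (E × E) :=
    { carrier := {x | (x.2 : E ⧸ Subgroup.zpowers z) = θ (x.1 : E)}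
      one_mem' := by simp
      mul_mem' := fun {x y} hx hy => by
        simp only [Set.mem_setOf_eq, Prod.fst_mul, Prod.snd_mul, QuotientGroup.mk_mul, map_mul] at hx hy ⊢
        rw [hx, hy]
      inv_mem' := fun {x} hx => by
        simp only [Set.mem_setOf_eq, Prod.fst_inv, Prod.snd_inv, QuotientGroup.mk_inv, map_inv] at hx ⊢
        rw [hx] }
  have hz1 : (z : E ⧸ Subgroup.zpowers z) = 1 := (QuotientGroup.eq_one_iff z).mpr (Subgroup.mem_zpowers z)
  let zz : Γ := ⟨(z, z), show (z : E ⧸ Subgroup.zpowers z) = θ (z : E) by rw [hz1, map_one]⟩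
  let D : Subgroup Γ := Subgroup.zpowers zz
  have hzzc : ∀ g : Γ, zz * g = g * zz := fun g => Subtype.ext (Prod.ext (hs.central _) (hs.central _))
  haveI hD : D.Normal := ⟨fun n hn g => by
    obtain ⟨i, rfl⟩ := hn
    rw [show g * zz ^ i * g⁻¹ = zz ^ i by
      rw [mul_inv_eq_iff_eq_mul]; exact ((show Commute zz g from hzzc g).zpow_left i).eq.symm]
    exact ⟨i, rfl⟩⟩
  have hzzmem : ∀ g : Γ, g ∈ D ↔ g = 1 ∨ g = zz := by
    intro g
    refine ⟨?_, ?_⟩
    · rintro ⟨i, rfl⟩
      have h2 : zz ^ (2 : ℤ) = 1 := by rw [zpow_two]; exact Subtype.ext (Prod.ext hs.sq hs.sq)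
      rcases Int.even_or_odd i with ⟨j, hj⟩ | ⟨j, hj⟩
      · left; rw [hj, ← two_mul]; exact (zpow_mul zz 2 j).trans (by rw [h2, one_zpow])
      · right; show zz ^ i = zz; rw [hj, zpow_add, zpow_mul, h2, one_zpow, zpow_one, one_mul]
    · rintro (rfl | rfl)
      · exact one_mem _
      · exact Subgroup.mem_zpowers _
  have hexp : ∀ q : Γ ⧸ D, q * q = 1 := by
    intro q
    induction q using QuotientGroup.induction_on with | _ g =>
    rw [← QuotientGroup.mk_mul, QuotientGroup.eq_one_iff, hzzmem]
    have h1 := hsquare g.1.1 g.1.2 g.2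
    rcases hs.square g.1.1 with e | e
    · exact Or.inl (Subtype.ext (Prod.ext e (h1.trans e)))
    · exact Or.inr (Subtype.ext (Prod.ext e (h1.trans e)))
  letI : CommGroup (Γ ⧸ D) := { (inferInstance : Group (Γ ⧸ D)) with
    mul_comm := fun q r => by
      have h1 := hexp (q * r)
      rw [← mul_left_inj (r * q), one_mul] at h1
      calc q * r = q * r * ((q * r) * (r * q)) * 1 := by
            rw [mul_one, show q * r * (r * q) = 1 by
              rw [mul_assoc, ← mul_assoc r, hexp, one_mul, hexp], mul_one]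
        _ = (q * r * (q * r)) * (r * q) := by group
        _ = r * q := by rw [hexp, one_mul] }
  have hΓK : ∀ k, ∀ g : Γ, (b k g.1.1, b k g.1.2) ∈ Γ := fun k g => hK k _ _ g.2
  let bΓ : K →* MulAut Γ :=
    { toFun := fun k =>
        { toFun := fun g => ⟨_, hΓK k g⟩
          invFun := fun g => ⟨_, hΓK k⁻¹ g⟩
          left_inv := fun g => Subtype.ext (Prod.ext (by simp) (by simp))
          right_inv := fun g => Subtype.ext (Prod.ext (by simp) (by simp))
          map_mul' := fun g g' => Subtype.ext (Prod.ext (map_mul (b k) g.1.1 g'.1.1) (map_mul (b k) g.1.2 g'.1.2)) }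
      map_one' := MulEquiv.ext fun g => Subtype.ext (Prod.ext (by simp) (by simp))
      map_mul' := fun k l => MulEquiv.ext fun g => Subtype.ext (Prod.ext (by simp) (by simp)) }
  have hDK : ∀ k, ∀ g ∈ D, bΓ k g ∈ D := by
    intro k g hg
    rw [hzzmem] at hg ⊢
    rcases hg with rfl | rfl
    · exact Or.inl (map_one _)
    · exact Or.inr (Subtype.ext (Prod.ext (hs.map_z _) (hs.map_z _)))
  let t₀ : Γ := ⟨(1, z), show (z : E ⧸ Subgroup.zpowers z) = θ ((1 : E) : E ⧸ Subgroup.zpowers z) by
    rw [hz1, QuotientGroup.mk_one, map_one]⟩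
  have ht : (t₀ : Γ ⧸ D) ≠ 1 := by
    rw [Ne, QuotientGroup.eq_one_iff, hzzmem]
    rintro (e | e)
    · exact hs.ne (congrArg (fun g : Γ => g.1.2) e)
    · exact hs.ne (congrArg (fun g : Γ => g.1.1) e).symm
  have hfix : ∀ q : Γ ⧸ D, (∀ k, quotHom bΓ D hDK k q = q) ↔ q = 1 ∨ q = (t₀ : Γ ⧸ D) := by
    intro q
    constructor
    · induction q using QuotientGroup.induction_on with | _ g =>
      intro hq
      have h1 : g.1.1 ∈ Subgroup.zpowers z := hfpf _ fun k => by
        have h2 := (hq k).symm
        rw [quotHom_mk, QuotientGroup.eq, hzzmem] at h2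
        rcases h2 with e | e
        · have := congrArg (fun g : Γ => g.1.1) e
          exact hs.mem_zpowers.mpr (Or.inl this)
        · have := congrArg (fun g : Γ => g.1.1) e
          exact hs.mem_zpowers.mpr (Or.inr this)
      have h2 : g.1.2 ∈ Subgroup.zpowers z := by
        rw [← QuotientGroup.eq_one_iff, g.2, (QuotientGroup.eq_one_iff _).mpr h1, map_one]
      rcases hs.mem_zpowers.mp h1 with e1 | e1 <;> rcases hs.mem_zpowers.mp h2 with e2 | e2
      · left; rw [show g = 1 from Subtype.ext (Prod.ext e1 e2)]; rfl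
      · right; rw [show g = t₀ from Subtype.ext (Prod.ext e1 e2)]
      · right
        rw [QuotientGroup.eq, hzzmem]
        exact Or.inr (Subtype.ext (Prod.ext (show g.1.1⁻¹ * 1 = z by rw [e1, mul_one, hs.inv_z])
          (show g.1.2⁻¹ * z = z by rw [e2, inv_one, one_mul])))
      · left
        rw [QuotientGroup.eq_one_iff, hzzmem]
        exact Or.inr (Subtype.ext (Prod.ext e1 e2))
    · rintro (rfl | rfl) k
      · exact map_one _
      · rw [quotHom_mk]
        exact congrArg _ (Subtype.ext (Prod.ext (map_one (b k)) (hs.map_z _)))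
  obtain ⟨M₀, ht0, hcov, hM0K, -⟩ := exists_complement (quotHom bΓ D hDK) hodd hexp _ ht hfix
  -- the graph is a function
  have hex : ∀ e : E, ∃ f : E, ∃ hf : (e, f) ∈ Γ, ((⟨(e, f), hf⟩ : Γ) : Γ ⧸ D) ∈ M₀ := by
    intro e
    obtain ⟨f, hf⟩ := QuotientGroup.mk_surjective (θ (e : E ⧸ Subgroup.zpowers z))
    rcases hcov ((⟨(e, f), hf⟩ : Γ) : Γ ⧸ D) with h | h
    · exact ⟨f, hf, h⟩
    · refine ⟨f * z, show ((f * z : E) : E ⧸ Subgroup.zpowers z) = _ by
        rw [QuotientGroup.mk_mul, hz1, mul_one]; exact hf, ?_⟩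
      convert h using 1
      show _ = ((⟨(e, f), hf⟩ * t₀ : Γ) : Γ ⧸ D)
      exact congrArg _ (Subtype.ext (Prod.ext (mul_one e).symm rfl))
  choose F hF hFM using hex
  have huniq : ∀ e f (hf : (e, f) ∈ Γ), ((⟨(e, f), hf⟩ : Γ) : Γ ⧸ D) ∈ M₀ → f = F e := by
    intro e f hf hfM
    have h0 : (F e : E ⧸ Subgroup.zpowers z) = (f : E ⧸ Subgroup.zpowers z) := (hF e : _ = _).trans (hf : _ = _).symm
    rcases hs.mk_eq.mp h0 with h | h
    · exact h
    · exfalso
      refine ht0 ?_
      have := mul_mem (inv_mem (hFM e)) hfM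
      rw [← QuotientGroup.mk_inv, ← QuotientGroup.mk_mul] at this
      convert this using 2
      refine Subtype.ext (Prod.ext (inv_mul_cancel e).symm ?_)
      show z = (F e)⁻¹ * f
      rw [h, inv_mul_cancel_left]
  let φ₀ : E →* E := MonoidHom.mk' F fun x y => (huniq (x * y) (F x * F y) (mul_mem (hF x) (hF y)) (by
    have := mul_mem (hFM x) (hFM y)
    rwa [← QuotientGroup.mk_mul] at this)).symm
  have hinj : Function.Injective φ₀ := by
    rw [injective_iff_map_eq_one]
    intro e (he : F e = 1)
    have h1 : (F e : E ⧸ Subgroup.zpowers z) = θ e := hF e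
    rw [he, QuotientGroup.mk_one, eq_comm, map_eq_one_iff _ θ.injective, QuotientGroup.eq_one_iff,
      hs.mem_zpowers] at h1
    rcases h1 with h | h
    · exact h
    · exfalso
      refine ht0 ?_
      convert hFM e using 1
      rw [QuotientGroup.eq, hzzmem]
      exact Or.inr (Subtype.ext (Prod.ext (show (1 : E)⁻¹ * e = z by rw [h, inv_one, one_mul])
        (show z⁻¹ * F e = z by rw [he, mul_one, hs.inv_z])))
  let φ : MulAut E := MulEquiv.ofBijective φ₀ ⟨hinj, Finite.surjective_of_injective hinj⟩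
  refine ⟨φ, fun e => hF e, fun k e => (huniq (b k e) (b k (F e)) (hΓK k ⟨(e, F e), hF e⟩) ?_).symm⟩
  exact hM0K k _ (hFM e)

/-- A cyclic image. -/
theorem good_of_cyclic {P : Type u} [Group P] {a : P →* MulAut E} (hs : IsSympl z)
    (hcyc : IsCyclic a.range) : Good z a := by
  intro V _ _ _ ρ hρ
  obtain ⟨g, hg⟩ := hcyc.exists_generator
  obtain ⟨T, hT⟩ := exists_op hs hρ (g : MulAut E)
  set m := orderOf g with hm
  have hm0 : 0 < m := orderOf_pos g
  have hTn : ∀ n : ℕ, ∀ e, ((T ^ n : (Module.End ℂ V)ˣ) : Module.End ℂ V) * ρ e =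
      ρ (((g : MulAut E) ^ n) e) * ((T ^ n : (Module.End ℂ V)ˣ) : Module.End ℂ V) := by
    intro n
    induction n with
    | zero => intro e; simp
    | succ n ih =>
      intro e
      rw [pow_succ, Units.val_mul, mul_assoc, hT, ← mul_assoc, ih, mul_assoc, pow_succ, MulAut.mul_apply]
  obtain ⟨c, hc0, hc⟩ := op_unique hs hρ (φ := 1) (S := T ^ m) (T := 1) (fun e => by
      have := hTn m e
      rwa [show (g : MulAut E) ^ m = 1 by
        rw [← Subgroup.coe_pow, hm, pow_orderOf_eq_one, Subgroup.coe_one]] at this)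
    (fun e => by simp)
  obtain ⟨d, hd⟩ := IsAlgClosed.exists_pow_nat_eq c⁻¹ hm0
  have hd0 : d ≠ 0 := fun e => inv_ne_zero hc0 (by rw [← hd, e, zero_pow hm0.ne'])
  let T' : (Module.End ℂ V)ˣ := Units.map (algebraMap ℂ (Module.End ℂ V)).toMonoidHom (Units.mk0 d hd0) * T
  have hT'v : (T' : Module.End ℂ V) = d • (T : Module.End ℂ V) := by
    simp [T', Algebra.smul_def]
  have hT'n : ∀ n : ℕ, ((T' ^ n : (Module.End ℂ V)ˣ) : Module.End ℂ V) =
      d ^ n • ((T ^ n : (Module.End ℂ V)ˣ) : Module.End ℂ V) := fun n => by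
    rw [Units.val_pow_eq_pow_val, Units.val_pow_eq_pow_val, hT'v, smul_pow]
  have hT'm : T' ^ m = 1 := Units.ext (by
    rw [hT'n, hc, smul_smul, hd, inv_mul_cancel₀ hc0, one_smul])
  have hg' : orderOf T' ∣ orderOf g := orderOf_dvd_of_pow_eq_one hT'm
  let M := (monoidHomOfForallMemZpowers (g := g) hg (g' := T') hg').comp
    a.rangeRestrict
  refine ⟨M, fun p e => ?_⟩
  obtain ⟨n, hn⟩ : ∃ n : ℕ, a.rangeRestrict p = g ^ n := by
    obtain ⟨n, hn⟩ := (mem_powers_iff_mem_zpowers.mpr (hg (a.rangeRestrict p)) : _)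
    exact ⟨n, hn.symm⟩
  have h1 : M p = T' ^ n := by
    show monoidHomOfForallMemZpowers hg hg' (a.rangeRestrict p) = _
    rw [hn, map_pow, monoidHomOfForallMemZpowers_apply_gen]
  have h2 : a p = (g : MulAut E) ^ n := by
    rw [← Subgroup.coe_pow, ← hn]; rfl
  rw [h1, hT'n, smul_mul_assoc, hTn, h2, mul_smul_comm]

end CfsgLib.SpinExt
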