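import Cfsg.Agent.Lib.LocalEven.SpinExt.Irreducible

/-!
A 2-group normalising an odd group without fixed points lifts to the spin representation.
-/

set_option autoImplicit false
set_option linter.all false

namespace CfsgLib.SpinExt

universe u

theorem good_aux : ∀ (n : ℕ) (E : Type u) [Group E] [Finite E] (z : E) (P : Type u) [Group P] [Finite P]
    (a : P →* MulAut E) (K : Type u) [Group K] [Finite K] (b : K →* MulAut E),
    Hyp z a b → Nat.card E = n → Good z a := by
  intro n
  induction n using Nat.strong_induction_on with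
  | _ n ih => ?_
  intro E _ _ z P _ _ a K _ _ b h hn
  classical
  subst hn
  have hs := h.sym
  have hb : Below.{u} (Nat.card E) := fun E' _ _ z' P' _ _ a' K' _ _ b' h' hlt =>
    ih _ hlt E' z' P' a' K' b' h' rfl
  by_cases htriv : ∀ e : E, e ∈ Subgroup.zpowers z
  · intro V _ _ _ ρ hρ
    refine ⟨1, fun p e => ?_⟩
    have he : a p e = e := by
      rcases hs.mem_zpowers.mp (htriv e) with rfl | rfl
      · exact map_one _
      · exact hs.map_z _
    rw [he, MonoidHom.one_apply, Units.val_one, one_mul, mul_one]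
  push Not at htriv
  obtain ⟨e₀, he₀⟩ := htriv
  by_cases hex : ∃ A : Subgroup E, z ∈ A ∧ A ≠ Subgroup.zpowers z ∧ A ≠ ⊤ ∧ (∀ p, ∀ e ∈ A, a p e ∈ A) ∧
      ∀ k, ∀ e ∈ A, b k e ∈ A
  · obtain ⟨A, hzA, hne, hne', hP, hK⟩ := hex
    exact good_of_invariant h hb A hzA hne hne' hP hK
  -- faithful operators
  let b' : b.range →* MulAut E := b.range.subtype
  have h' : Hyp z a b' := ⟨hs, h.pP, Odd.of_dvd_nat h.odd (Subgroup.card_range_dvd b), fun p k => by
    obtain ⟨l, hl⟩ := k.2
    obtain ⟨l', hl'⟩ := h.norm p l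
    refine ⟨⟨b l', l', rfl⟩, fun e => ?_⟩
    show a p ((k : MulAut E) e) = b l' (a p e)
    rw [← hl]; exact hl' e, fun e he => h.fpf e fun k => he ⟨b k, k, rfl⟩⟩
  have hirr : ∀ A : Subgroup E, z ∈ A → (∀ p, ∀ e ∈ A, a p e ∈ A) → (∀ k, ∀ e ∈ A, b' k e ∈ A) →
      A = Subgroup.zpowers z ∨ A = ⊤ := by
    intro A hzA hP hK
    by_contra hc
    push Not at hc
    exact hex ⟨A, hzA, hc.1, hc.2, hP, fun k e he => hK ⟨b k, k, rfl⟩ e he⟩
  haveI := hs.zpowers_normal
  let Q := E ⧸ Subgroup.zpowers z
  have hexp : ∀ q : Q, q * q = 1 := fun q => by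
    induction q using QuotientGroup.induction_on with | _ x =>
    rw [← QuotientGroup.mk_mul, QuotientGroup.eq_one_iff, hs.mem_zpowers]
    exact hs.square x
  letI : CommGroup Q := { (inferInstance : Group Q) with
    mul_comm := fun q r => by
      have hi : ∀ x : Q, x⁻¹ = x := fun x => inv_eq_of_mul_eq_one_right (hexp x)
      rw [← hi (q * r), mul_inv_rev, hi, hi] }
  letI : Module (ZMod 2) (Additive Q) := AddCommGroup.zmodModule (fun x => by
    rw [two_nsmul]; exact hexp x)
  have hmem : ∀ (φ : MulAut E), ∀ x ∈ Subgroup.zpowers z, φ x ∈ Subgroup.zpowers z := fun φ x hx => by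
    rcases hs.mem_zpowers.mp hx with rfl | rfl
    · rw [map_one]; exact one_mem _
    · rw [hs.map_z]; exact Subgroup.mem_zpowers _
  let act : MulAut E →* MulAut Q := quotHom (MonoidHom.id (MulAut E)) (Subgroup.zpowers z) hmem
  let C : Coord z (Additive Q) :=
    { mk := fun x => Additive.ofMul (x : Q)
      mk_mul := fun x y => rfl
      surj := fun v => by
        obtain ⟨x, hx⟩ := QuotientGroup.mk_surjective (Additive.toMul v)
        exact ⟨x, congrArg Additive.ofMul hx⟩
      mk_eq_zero := fun x => (QuotientGroup.eq_one_iff x)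
      L :=
        { toFun := fun φ => (MonoidHom.toAdditive (act φ).toMonoidHom).toZModLinearMap 2
          map_one' := LinearMap.ext fun v => by
            show Additive.ofMul (act 1 (Additive.toMul v)) = v
            rw [map_one]; rfl
          map_mul' := fun φ ψ => LinearMap.ext fun v => by
            show Additive.ofMul (act (φ * ψ) (Additive.toMul v)) =
              Additive.ofMul (act φ (act ψ (Additive.toMul v)))
            rw [map_mul]; rfl }
      L_mk := fun φ x => by
        show Additive.ofMul (act φ (x : Q)) = Additive.ofMul ((φ x : E) : Q)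
        rw [quotHom_mk]; rfl }
  haveI : Finite (Additive Q) := Finite.of_equiv Q Additive.ofMul
  haveI : Nontrivial (Additive Q) := ⟨C.mk e₀, 0, fun e => he₀ ((C.mk_eq_zero e₀).mp e)⟩
  haveI := Fintype.ofFinite b.range
  by_cases hid : ∃ r ∈ C.ring b', r * r = r ∧ r ≠ 0 ∧ r ≠ 1
  · obtain ⟨r, hr, hri, h0, h1⟩ := hid
    exact good_of_idempotent C h' hb b.range.subtype_injective hirr r hr hri h0 h1
  · push Not at hid
    exact good_of_field C h' hb b.range.subtype_injective
      fun r hr hri => or_iff_not_imp_left.mpr fun h0 => hid r hr hri h0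

/-- The 2-group acts on the spin representation. -/
theorem good {E : Type u} [Group E] [Finite E] {z : E} {P : Type u} [Group P] [Finite P]
    {a : P →* MulAut E} {K : Type u} [Group K] [Finite K] {b : K →* MulAut E} (h : Hyp z a b) : Good z a :=
  good_aux _ E z P a K b h rfl

end CfsgLib.SpinExt
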