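import Cfsg.Agent.Lib.LocalEven.SpinExt.Lift
import Cfsg.Agent.Lib.LocalEven.SpinExt.ClassSums

/-!
The ring of conjugate sums on `E/⟨z⟩` in coordinates.
-/

set_option autoImplicit false
set_option linter.all false

namespace CfsgLib.SpinExt

universe u

variable {E : Type u} [Group E] {z : E}

/-- An additive copy of `E/⟨z⟩` with the action of the automorphisms. -/
structure Coord (z : E) (M : Type u) [AddCommGroup M] [Module (ZMod 2) M] where of ::
  mk : E → M
  mk_mul : ∀ x y, mk (x * y) = mk x + mk y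
  surj : Function.Surjective mk
  mk_eq_zero : ∀ x, mk x = 0 ↔ x ∈ Subgroup.zpowers z
  L : MulAut E →* Module.End (ZMod 2) M
  L_mk : ∀ φ x, L φ (mk x) = mk (φ x)

theorem add_self_of_zmod {A : Type*} [AddCommGroup A] [Module (ZMod 2) A] (v : A) : v + v = 0 := by
  rw [← two_smul (ZMod 2) v, show (2 : ZMod 2) = 0 by decide, zero_smul]

namespace Coord

variable {M : Type u} [AddCommGroup M] [Module (ZMod 2) M] (C : Coord z M)

theorem mk_one : C.mk 1 = 0 := (C.mk_eq_zero 1).mpr (one_mem _)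

theorem mk_inv (x : E) : C.mk x⁻¹ = C.mk x := by
  have h := C.mk_mul x⁻¹ x
  rw [inv_mul_cancel, C.mk_one] at h
  rw [← add_zero (C.mk x⁻¹), ← add_self_of_zmod (C.mk x), ← add_assoc, ← h, zero_add]

theorem mk_eq_iff (x y : E) : C.mk x = C.mk y ↔ x⁻¹ * y ∈ Subgroup.zpowers z := by
  rw [← C.mk_eq_zero, C.mk_mul, C.mk_inv]
  refine ⟨fun h => by rw [h, add_self_of_zmod], fun h => ?_⟩
  rw [← add_zero (C.mk x), ← add_self_of_zmod (C.mk y), ← add_assoc, h, zero_add]

theorem mk_qeq [(Subgroup.zpowers z).Normal] (x y : E) :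
    C.mk x = C.mk y ↔ (x : E ⧸ Subgroup.zpowers z) = y := by
  rw [C.mk_eq_iff, QuotientGroup.eq]

include C in
theorem map_mem_zpowers (hs : IsSympl z) [Finite E] (φ : MulAut E) {x : E} (hx : x ∈ Subgroup.zpowers z) :
    φ x ∈ Subgroup.zpowers z := by
  rcases hs.mem_zpowers.mp hx with rfl | rfl
  · rw [map_one]; exact one_mem _
  · rw [hs.map_z]; exact Subgroup.mem_zpowers _

/-- The preimage of a subspace. -/
def pre (W : Submodule (ZMod 2) M) : Subgroup E where
  carrier := {x | C.mk x ∈ W}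
  one_mem' := show C.mk 1 ∈ W by rw [C.mk_one]; exact W.zero_mem
  mul_mem' := fun {x y} hx hy => show C.mk (x * y) ∈ W by rw [C.mk_mul]; exact W.add_mem hx hy
  inv_mem' := fun {x} hx => show C.mk x⁻¹ ∈ W by rw [C.mk_inv]; exact hx

theorem mem_pre {W : Submodule (ZMod 2) M} {x : E} : x ∈ C.pre W ↔ C.mk x ∈ W := Iff.rfl

theorem self_mem_pre (W : Submodule (ZMod 2) M) : z ∈ C.pre W := by
  rw [C.mem_pre, (C.mk_eq_zero z).mpr (Subgroup.mem_zpowers z)]
  exact W.zero_mem

/-- Commutation in coordinates. -/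
def B (v w : M) : Prop := ∀ x y : E, C.mk x = v → C.mk y = w → x * y = y * x

theorem B_mk (hs : IsSympl z) (x y : E) : C.B (C.mk x) (C.mk y) ↔ x * y = y * x := by
  refine ⟨fun h => h x y rfl rfl, fun h x' y' hx hy => ?_⟩
  have hc : ∀ c d : E, c * d = d * c → ∀ d', d' = d ∨ d' = d * z → c * d' = d' * c := by
    intro c d e d' hd
    rcases hd with rfl | rfl
    · exact e
    · rw [← mul_assoc, e, mul_assoc, ← hs.central, mul_assoc]
  have hx' : x' = x ∨ x' = x * z := by
    have := hs.mem_zpowers.mp ((C.mk_eq_iff x x').mp hx.symm)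
    rwa [inv_mul_eq_one, inv_mul_eq_iff_eq_mul, eq_comm (a := x)] at this
  have hy' : y' = y ∨ y' = y * z := by
    have := hs.mem_zpowers.mp ((C.mk_eq_iff y y').mp hy.symm)
    rwa [inv_mul_eq_one, inv_mul_eq_iff_eq_mul, eq_comm (a := y)] at this
  exact hc x' y (hc y x h.symm x' hx').symm y' hy'

theorem B_symm (hs : IsSympl z) (v w : M) : C.B v w ↔ C.B w v := by
  obtain ⟨x, rfl⟩ := C.surj v
  obtain ⟨y, rfl⟩ := C.surj w
  rw [C.B_mk hs, C.B_mk hs, eq_comm]

theorem B_add (hs : IsSympl z) (u v w : M) : C.B (u + v) w ↔ (C.B u w ↔ C.B v w) := by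
  obtain ⟨x, rfl⟩ := C.surj u
  obtain ⟨y, rfl⟩ := C.surj v
  obtain ⟨c, rfl⟩ := C.surj w
  rw [← C.mk_mul, C.B_mk hs, C.B_mk hs, C.B_mk hs]
  by_cases hx : x * c = c * x <;> by_cases hy : y * c = c * y
  · refine iff_of_true ?_ (iff_of_true hx hy)
    rw [mul_assoc, hy, ← mul_assoc, hx, mul_assoc]
  · refine iff_of_false (fun h => hy ?_) (fun h => hy (h.mp hx))
    rw [mul_assoc, ← mul_assoc c, ← hx, mul_assoc] at h
    exact mul_left_cancel h
  · refine iff_of_false (fun h => hx ?_) (fun h => hx (h.mpr hy))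
    rw [mul_assoc, hy, ← mul_assoc, ← mul_assoc] at h
    exact mul_right_cancel h
  · exact iff_of_true (hs.mul_mem_centralizer hx hy) (iff_of_false hx hy)

theorem B_zero (hs : IsSympl z) (w : M) : C.B 0 w := by
  have h := C.B_add hs 0 0 w
  rw [add_zero] at h
  exact h.mpr Iff.rfl

theorem B_zero' (hs : IsSympl z) (w : M) : C.B w 0 := (C.B_symm hs _ _).mpr (C.B_zero hs w)

theorem B_nondeg (hs : IsSympl z) {v : M} (h : ∀ w, C.B v w) : v = 0 := by
  obtain ⟨x, rfl⟩ := C.surj v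
  rw [C.mk_eq_zero, hs.mem_zpowers]
  exact hs.nondeg x fun y => (C.B_mk hs x y).mp (h _)

theorem B_L (hs : IsSympl z) (φ : MulAut E) (v w : M) : C.B (C.L φ v) (C.L φ w) ↔ C.B v w := by
  obtain ⟨x, rfl⟩ := C.surj v
  obtain ⟨y, rfl⟩ := C.surj w
  rw [C.L_mk, C.L_mk, C.B_mk hs, C.B_mk hs, ← map_mul, ← map_mul, φ.injective.eq_iff]

/-- Adjointness. -/
def IsAdj (r r' : Module.End (ZMod 2) M) : Prop := ∀ v w, C.B (r v) w ↔ C.B v (r' w)

theorem isAdj_unique (hs : IsSympl z) {r r' r'' : Module.End (ZMod 2) M} (h : C.IsAdj r r')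
    (h' : C.IsAdj r r'') : r' = r'' := by
  refine LinearMap.ext fun w => ?_
  have h0 : r' w + r'' w = 0 := C.B_nondeg hs fun v => by
    rw [C.B_add hs, C.B_symm hs, C.B_symm hs (r'' w), ← h, ← h']
  rw [← add_zero (r' w), ← add_self_of_zmod (r'' w), ← add_assoc, h0, zero_add]

theorem isAdj_symm (hs : IsSympl z) {r r' : Module.End (ZMod 2) M} (h : C.IsAdj r r') : C.IsAdj r' r :=
  fun v w => by rw [C.B_symm hs, ← h, C.B_symm hs]

theorem isAdj_one : C.IsAdj 1 1 := fun v w => Iff.rfl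

theorem isAdj_zero (hs : IsSympl z) : C.IsAdj 0 0 := fun v w => by
  simp only [LinearMap.zero_apply]
  exact iff_of_true (C.B_zero hs w) (C.B_zero' hs v)

theorem isAdj_add (hs : IsSympl z) {r r' s s' : Module.End (ZMod 2) M} (h : C.IsAdj r r')
    (h' : C.IsAdj s s') : C.IsAdj (r + s) (r' + s') := fun v w => by
  rw [LinearMap.add_apply, LinearMap.add_apply, C.B_add hs, C.B_symm hs v (r' w + s' w), C.B_add hs,
    C.B_symm hs (r' w), C.B_symm hs (s' w), h, h']

theorem isAdj_mul {r r' s s' : Module.End (ZMod 2) M} (h : C.IsAdj r r') (h' : C.IsAdj s s') :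
    C.IsAdj (r * s) (s' * r') := fun v w => by
  rw [Module.End.mul_apply, Module.End.mul_apply, h, h']

theorem isAdj_L (hs : IsSympl z) (φ : MulAut E) : C.IsAdj (C.L φ) (C.L φ⁻¹) := fun v w => by
  rw [← C.B_L hs φ v, ← Module.End.mul_apply (C.L φ) (C.L φ⁻¹), ← map_mul, mul_inv_cancel, map_one,
    Module.End.one_apply]

theorem isAdj_sum (hs : IsSympl z) {ι : Type*} (s : Finset ι) (f g : ι → Module.End (ZMod 2) M)
    (h : ∀ i ∈ s, C.IsAdj (f i) (g i)) : C.IsAdj (∑ i ∈ s, f i) (∑ i ∈ s, g i) := by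
  classical
  induction s using Finset.induction_on with
  | empty => simpa using C.isAdj_zero hs
  | insert i s hi ih =>
    rw [Finset.sum_insert hi, Finset.sum_insert hi]
    exact C.isAdj_add hs (h i (Finset.mem_insert_self i s)) (ih fun j hj => h j (Finset.mem_insert_of_mem hj))

variable [Finite M] {K : Type u} [Group K] [Fintype K] (b : K →* MulAut E)

/-- The ring of conjugate sums. -/
noncomputable def ring : Subring (Module.End (ZMod 2) M) :=
  Subring.closure (Set.range (conjOp (C.L.comp b)))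

theorem commute_L {r : Module.End (ZMod 2) M} (hr : r ∈ C.ring b) (k : K) :
    C.L (b k) * r = r * C.L (b k) := by
  refine Subring.mem_centralizer_iff.mp ((Subring.closure_le
    (t := Subring.centralizer (Set.range (C.L.comp b)))).mpr ?_ hr) _ ⟨k, rfl⟩
  rintro _ ⟨g, rfl⟩
  rw [SetLike.mem_coe, Subring.mem_centralizer_iff]
  rintro _ ⟨l, rfl⟩
  rw [conjOp, Finset.mul_sum, Finset.sum_mul]
  refine Fintype.sum_equiv (Equiv.mulLeft l) _ _ fun k' => ?_
  rw [Equiv.coe_mulLeft, ← map_mul, ← map_mul]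
  congr 1
  group

theorem ring_comm {r s : Module.End (ZMod 2) M} (hr : r ∈ C.ring b) (hs' : s ∈ C.ring b) : r * s = s * r := by
  refine (Subring.mem_centralizer_iff.mp ((Subring.closure_le
    (t := Subring.centralizer ({r} : Set (Module.End (ZMod 2) M)))).mpr ?_ hs') r (Set.mem_singleton r))
  rintro _ ⟨g, rfl⟩
  rw [SetLike.mem_coe, Subring.mem_centralizer_iff]
  intro r' hr'
  rw [Set.mem_singleton_iff.mp hr', conjOp, Finset.mul_sum, Finset.sum_mul]
  exact Finset.sum_congr rfl fun k _ => (C.commute_L b hr _).symm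

theorem exists_adj (hs : IsSympl z) {r : Module.End (ZMod 2) M} (hr : r ∈ C.ring b) :
    ∃ r' ∈ C.ring b, C.IsAdj r r' := by
  induction hr using Subring.closure_induction with
  | mem x hx =>
    obtain ⟨g, rfl⟩ := hx
    refine ⟨_, Subring.subset_closure ⟨g⁻¹, rfl⟩, ?_⟩
    refine C.isAdj_sum hs _ _ _ fun k _ => ?_
    show C.IsAdj (C.L (b (k * g * k⁻¹))) (C.L (b (k * g⁻¹ * k⁻¹)))
    rw [show k * g⁻¹ * k⁻¹ = (k * g * k⁻¹)⁻¹ by group, map_inv b]
    exact C.isAdj_L hs _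
  | zero => exact ⟨0, zero_mem _, C.isAdj_zero hs⟩
  | one => exact ⟨1, one_mem _, C.isAdj_one⟩
  | add x y _ _ hx hy =>
    obtain ⟨x', hx', hxa⟩ := hx
    obtain ⟨y', hy', hya⟩ := hy
    exact ⟨_, add_mem hx' hy', C.isAdj_add hs hxa hya⟩
  | neg x _ hx =>
    obtain ⟨x', hx', hxa⟩ := hx
    refine ⟨x', hx', ?_⟩
    rwa [show -x = x from neg_eq_of_add_eq_zero_left (LinearMap.ext fun v => add_self_of_zmod (x v))]
  | mul x y _ _ hx hy =>
    obtain ⟨x', hx', hxa⟩ := hx
    obtain ⟨y', hy', hya⟩ := hy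
    exact ⟨_, mul_mem hy' hx', C.isAdj_mul hxa hya⟩

theorem exists_frobenius (hodd : Odd (Fintype.card K)) :
    ∃ t : ℕ, 1 ≤ t ∧ ∀ r ∈ C.ring b, r ^ 2 ^ t = r := by
  obtain ⟨t, ht, hfr⟩ := (conjOp_frobenius hodd (C.L.comp b)).1
  refine ⟨t, ht, fun r hr => ?_⟩
  have h2 : (2 : ℕ) ^ t ≠ 0 := pow_ne_zero _ two_ne_zero
  have hdd : ∀ x : Module.End (ZMod 2) M, x + x = 0 := fun x => LinearMap.ext fun v => add_self_of_zmod (x v)
  have hpow : ∀ (x y : Module.End (ZMod 2) M), x * y = y * x → ∀ n : ℕ,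
      (x + y) ^ 2 ^ n = x ^ 2 ^ n + y ^ 2 ^ n := by
    intro x y hxy n
    induction n with
    | zero => simp
    | succ n ih =>
      have hc : x ^ 2 ^ n * y ^ 2 ^ n = y ^ 2 ^ n * x ^ 2 ^ n := (Commute.pow_pow hxy _ _).eq
      rw [pow_succ, pow_mul, ih, pow_two, pow_mul, pow_mul, pow_two, pow_two, mul_add, add_mul, add_mul, hc,
        add_assoc, ← add_assoc (y ^ 2 ^ n * x ^ 2 ^ n), hdd, zero_add]
  induction hr using Subring.closure_induction with
  | mem x hx =>
    obtain ⟨g, rfl⟩ := hx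
    exact hfr g
  | zero => exact zero_pow h2
  | one => exact one_pow _
  | add x y hx' hy' hx hy => rw [hpow x y (C.ring_comm b hx' hy'), hx, hy]
  | neg x _ hx =>
    rwa [show -x = x from neg_eq_of_add_eq_zero_left (hdd x)]
  | mul x y hx' hy' hx hy => rw [Commute.mul_pow (C.ring_comm b hx' hy'), hx, hy]

end Coord

/-- Conjugation by the operator of an automorphism. -/
noncomputable def Coord.conj {M : Type u} [AddCommGroup M] [Module (ZMod 2) M] (C : Coord z M) :
    MulAut E →* RingAut (Module.End (ZMod 2) M) where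
  toFun φ :=
    { toFun := fun r => C.L φ * r * C.L φ⁻¹
      invFun := fun r => C.L φ⁻¹ * r * C.L φ
      left_inv := fun r => by
        show C.L φ⁻¹ * (C.L φ * r * C.L φ⁻¹) * C.L φ = r
        rw [mul_assoc (C.L φ), ← mul_assoc (C.L φ⁻¹), ← map_mul, inv_mul_cancel, map_one, one_mul, mul_assoc,
          ← map_mul, inv_mul_cancel, map_one, mul_one]
      right_inv := fun r => by
        show C.L φ * (C.L φ⁻¹ * r * C.L φ) * C.L φ⁻¹ = r
        rw [mul_assoc (C.L φ⁻¹), ← mul_assoc (C.L φ), ← map_mul, mul_inv_cancel, map_one, one_mul, mul_assoc,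
          ← map_mul, mul_inv_cancel, map_one, mul_one]
      map_mul' := fun r s => by
        show C.L φ * (r * s) * C.L φ⁻¹ = C.L φ * r * C.L φ⁻¹ * (C.L φ * s * C.L φ⁻¹)
        rw [show C.L φ * r * C.L φ⁻¹ * (C.L φ * s * C.L φ⁻¹) =
          C.L φ * r * (C.L φ⁻¹ * C.L φ) * s * C.L φ⁻¹ by simp only [mul_assoc], ← map_mul, inv_mul_cancel,
          map_one, mul_one]
        simp only [mul_assoc]
      map_add' := fun r s => by rw [mul_add, add_mul] }
  map_one' := RingEquiv.ext fun r => by simp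
  map_mul' φ ψ := RingEquiv.ext fun r => by
    show C.L (φ * ψ) * r * C.L (φ * ψ)⁻¹ = C.L φ * (C.L ψ * r * C.L ψ⁻¹) * C.L φ⁻¹
    rw [mul_inv_rev, map_mul, map_mul]
    simp only [mul_assoc]

theorem Coord.conj_mem {M : Type u} [AddCommGroup M] [Module (ZMod 2) M] (C : Coord z M) [Finite M]
    {K : Type u} [Group K] [Fintype K] {b : K →* MulAut E} (hb : Function.Injective b) (φ : MulAut E)
    (hφ : ∀ k, ∃ k', φ * b k * φ⁻¹ = b k') {r : Module.End (ZMod 2) M} (hr : r ∈ C.ring b) :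
    C.conj φ r ∈ C.ring b := by
  choose σ hσ using hφ
  have hmul : ∀ k l, σ (k * l) = σ k * σ l := fun k l => hb (by
    rw [map_mul b (σ k), ← hσ, ← hσ, ← hσ, map_mul]; group)
  have hinj : Function.Injective σ := fun k l e => hb (by
    have := hσ k
    rw [e, ← hσ l] at this
    exact mul_left_cancel (mul_right_cancel this))
  let σe : K ≃* K := MulEquiv.ofBijective (MonoidHom.mk' σ hmul) (Finite.injective_iff_bijective.mp hinj)
  refine ((Subring.closure_le (t := (C.ring b).comap (C.conj φ).toRingHom)).mpr ?_ hr :)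
  rintro _ ⟨g, rfl⟩
  refine Subring.subset_closure ⟨σ g, ?_⟩
  show _ = C.conj φ (conjOp (C.L.comp b) g)
  rw [conjOp, conjOp, map_sum]
  refine (Fintype.sum_equiv σe.toEquiv _ _ fun k => ?_).symm
  show C.L φ * C.L (b (k * g * k⁻¹)) * C.L φ⁻¹ = C.L (b (σ k * σ g * (σ k)⁻¹))
  rw [← map_mul, ← map_mul, hσ, hmul, hmul]
  congr 3
  exact map_inv (MonoidHom.mk' σ hmul) k

end CfsgLib.SpinExt
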