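import Cfsg.Agent.Lib.LocalEven.SpinExt.Spin
import Mathlib.RepresentationTheory.Invariants

/-!
Reductions: an invariant subgroup splits the problem.
-/

set_option autoImplicit false
set_option linter.all false

namespace CfsgLib.SpinExt

open Module
open scoped TensorProduct

universe u

variable {E : Type u} [Group E]

/-- The standing hypothesis: `P` a 2-group and `K` of odd order without fixed points on `E/⟨z⟩`,
normalised by `P`. -/
structure Hyp (z : E) {P : Type u} [Group P] (a : P →* MulAut E) {K : Type u} [Group K]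
    (b : K →* MulAut E) : Prop where
  sym : IsSympl z
  pP : IsPGroup 2 P
  odd : Odd (Nat.card K)
  norm : ∀ p k, ∃ k', ∀ e, a p (b k e) = b k' (a p e)
  fpf : ∀ e, (∀ k, e⁻¹ * b k e ∈ Subgroup.zpowers z) → e ∈ Subgroup.zpowers z

/-- The induction hypothesis: all smaller cases hold. -/
def Below (n : ℕ) : Prop :=
  ∀ (E' : Type u) [Group E'] [Finite E'] (z' : E') (P' : Type u) [Group P'] [Finite P']
    (a' : P' →* MulAut E') (K' : Type u) [Group K'] [Finite K'] (b' : K' →* MulAut E'),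
    Hyp z' a' b' → Nat.card E' < n → Good z' a'

/-- The automorphisms stabilising a subgroup. -/
def stab (A : Subgroup E) : Subgroup (MulAut E) where
  carrier := {φ | ∀ e, φ e ∈ A ↔ e ∈ A}
  one_mem' := fun e => Iff.rfl
  mul_mem' := fun {φ ψ} h₁ h₂ e => (h₁ (ψ e)).trans (h₂ e)
  inv_mem' := fun {φ} h₁ e => by
    conv_rhs => rw [← φ.apply_symm_apply e]
    exact (h₁ (φ.symm e)).symm

/-- Restriction of an automorphism to a stable subgroup. -/
def res (A : Subgroup E) : stab A →* MulAut A where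
  toFun φ :=
    { toFun := fun x => ⟨(φ : MulAut E) x, ((φ.2 : ∀ e, (φ : MulAut E) e ∈ A ↔ e ∈ A) x).mpr x.2⟩
      invFun := fun x => ⟨(φ⁻¹ : stab A).1 x, (((φ⁻¹ : stab A).2 : ∀ e, (φ⁻¹ : stab A).1 e ∈ A ↔ e ∈ A) x).mpr x.2⟩
      left_inv := fun x => Subtype.ext ((φ : MulAut E).symm_apply_apply x)
      right_inv := fun x => Subtype.ext ((φ : MulAut E).apply_symm_apply x)
      map_mul' := fun x y => Subtype.ext (map_mul (φ : MulAut E) (x : E) y) }
  map_one' := rfl
  map_mul' _ _ := rfl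

theorem mem_stab {X : Type*} [Group X] {f : X →* MulAut E} {A : Subgroup E}
    (h : ∀ x, ∀ e ∈ A, f x e ∈ A) (x : X) : f x ∈ stab A := fun e =>
  ⟨fun he => by
    have := h x⁻¹ _ he
    rwa [← MulAut.mul_apply, ← map_mul, inv_mul_cancel, map_one] at this, h x e⟩

/-- The restricted action. -/
def resHom {X : Type*} [Group X] (f : X →* MulAut E) (A : Subgroup E)
    (h : ∀ x, ∀ e ∈ A, f x e ∈ A) : X →* MulAut A :=
  (res A).comp (f.codRestrict (stab A) (mem_stab h))

@[simp]
theorem resHom_apply {X : Type*} [Group X] (f : X →* MulAut E) (A : Subgroup E)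
    (h : ∀ x, ∀ e ∈ A, f x e ∈ A) (x : X) (e : A) : (resHom f A h x e : E) = f x e := rfl

/-- The action on the quotient by a stable normal subgroup. -/
def quotHom {X : Type*} [Group X] (f : X →* MulAut E) (N : Subgroup E) [N.Normal]
    (h : ∀ x, ∀ e ∈ N, f x e ∈ N) : X →* MulAut (E ⧸ N) where
  toFun x := QuotientGroup.congr N N (f x) (by
    ext e
    refine ⟨?_, fun he => ⟨(f x).symm e, ?_, (f x).apply_symm_apply e⟩⟩
    · rintro ⟨e, he, rfl⟩
      exact h x e he
    · have := h x⁻¹ e he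
      rwa [map_inv] at this)
  map_one' := MulEquiv.ext fun q => QuotientGroup.induction_on q fun e => by
    show ((f 1 e : E) : E ⧸ N) = _
    rw [map_one]; rfl
  map_mul' x y := MulEquiv.ext fun q => QuotientGroup.induction_on q fun e => by
    show ((f (x * y) e : E) : E ⧸ N) = _
    rw [map_mul]; rfl

@[simp]
theorem quotHom_mk {X : Type*} [Group X] (f : X →* MulAut E) (N : Subgroup E) [N.Normal]
    (h : ∀ x, ∀ e ∈ N, f x e ∈ N) (x : X) (e : E) : quotHom f N h x (e : E ⧸ N) = ((f x e : E) : E ⧸ N) :=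
  rfl

variable [Finite E] {z : E} {P : Type u} [Group P] [Finite P] {a : P →* MulAut E}
  {K : Type u} [Group K] [Finite K] {b : K →* MulAut E}

omit [Finite P] [Finite K] in
theorem centralizer_stable {X : Type*} [Group X] (f : X →* MulAut E) {A : Subgroup E}
    (h : ∀ x, ∀ e ∈ A, f x e ∈ A) (x : X) :
    ∀ e ∈ Subgroup.centralizer (A : Set E), f x e ∈ Subgroup.centralizer (A : Set E) := by
  intro e he
  rw [Subgroup.mem_centralizer_iff] at he ⊢
  intro y hy
  have hy' := h x⁻¹ y hy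
  have := congrArg (f x) (he _ hy')
  rwa [map_mul, map_mul, ← MulAut.mul_apply, ← map_mul f, mul_inv_cancel, map_one, MulAut.one_apply]
    at this

theorem card_pos_two (h : Hyp z a b) {A : Subgroup E} (hzA : z ∈ A) (hne : A ≠ Subgroup.zpowers z) :
    2 < Nat.card A := by
  have hle := h.sym.zpowers_le hzA
  have h1 := Subgroup.card_le_of_le hle
  rw [h.sym.card_zpowers] at h1
  refine lt_of_le_of_ne h1 fun e => hne (Subgroup.eq_of_le_of_card_ge hle ?_).symm
  rw [h.sym.card_zpowers, e]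

/-- An invariant abelian subgroup is elementary and has a unique invariant complement of `⟨z⟩`. -/
theorem exists_inv_complement (h : Hyp z a b) (A : Subgroup E) (hzA : z ∈ A)
    (hAab : A ≤ Subgroup.centralizer (A : Set E)) (hKA : ∀ k, ∀ e ∈ A, b k e ∈ A) :
    (∀ x ∈ A, x * x = 1) ∧ ∃ A₀ : Subgroup E, A₀ ≤ A ∧ z ∉ A₀ ∧ (∀ x ∈ A, x ∈ A₀ ∨ x * z ∈ A₀) ∧
      Nat.card A = 2 * Nat.card A₀ ∧ (∀ k, ∀ e ∈ A₀, b k e ∈ A₀) ∧
      ∀ D : Subgroup E, D ≤ A → z ∉ D → (∀ k, ∀ e ∈ D, b k e ∈ D) → D ≤ A₀ := by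
  classical
  have hs := h.sym
  have hcomm : ∀ x ∈ A, ∀ y ∈ A, x * y = y * x := fun x hx y hy =>
    (Subgroup.mem_centralizer_iff.mp (hAab hx) y hy).symm
  have hmulsq : ∀ x ∈ A, ∀ y ∈ A, x * y * (x * y) = x * x * (y * y) := fun x hx y hy => by
    calc x * y * (x * y) = x * (y * x) * y := by group
      _ = x * (x * y) * y := by rw [hcomm x hx y hy]
      _ = x * x * (y * y) := by group
  -- elementary abelian
  have hexp : ∀ x ∈ A, x * x = 1 := by
    intro x hx
    refine (hs.square x).resolve_right fun hxz => ?_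
    let N : Subgroup E :=
      { carrier := {y | y ∈ A ∧ y * y = 1}
        one_mem' := ⟨one_mem _, one_mul 1⟩
        mul_mem' := fun {y w} hy hw => ⟨mul_mem hy.1 hw.1, by
          rw [hmulsq y hy.1 w hw.1, hy.2, hw.2, mul_one]⟩
        inv_mem' := fun {y} hy => ⟨inv_mem hy.1, by rw [← mul_inv_rev, hy.2, inv_one]⟩ }
    have hkx : ∀ k, x⁻¹ * b k x ∈ N := fun k => ⟨mul_mem (inv_mem hx) (hKA k x hx), by
      rw [hmulsq _ (inv_mem hx) _ (hKA k x hx), ← map_mul (b k), hxz, hs.map_z, ← mul_inv_rev, hxz,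
        inv_mul_cancel]⟩
    obtain ⟨n, hn, hfix⟩ := exists_fixed_of_fixed_mod b h.odd N
      (fun m hm n hn => hcomm m hm.1 n hn.1) (fun m hm => hm.2)
      (fun k m hm => ⟨hKA k m hm.1, by rw [← map_mul (b k), hm.2, map_one]⟩) x hkx
    have h2 := h.fpf _ fun k => by rw [hfix k, inv_mul_cancel]; exact one_mem _
    have h3 : x * n * (x * n) = z := by rw [hmulsq x hx n hn.1, hn.2, hxz, mul_one]
    rcases hs.mem_zpowers.mp h2 with e | e
    · rw [e, one_mul] at h3; exact hs.ne h3.symm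
    · rw [e, hs.sq] at h3; exact hs.ne h3.symm
  -- the complement
  letI : CommGroup A := { (inferInstance : Group A) with
    mul_comm := fun x y => Subtype.ext (hcomm x x.2 y y.2) }
  let zA : A := ⟨z, hzA⟩
  have hfixA : ∀ m : A, (∀ k, resHom b A hKA k m = m) ↔ m = 1 ∨ m = zA := by
    intro m
    refine ⟨fun hm => ?_, ?_⟩
    · have h2 := h.fpf (m : E) fun k => by
        rw [show b k (m : E) = m from congrArg Subtype.val (hm k), inv_mul_cancel]; exact one_mem _
      rcases hs.mem_zpowers.mp h2 with e | e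
      · exact Or.inl (Subtype.ext e)
      · exact Or.inr (Subtype.ext e)
    · rintro (rfl | rfl) k
      · exact map_one _
      · exact Subtype.ext (hs.map_z _)
  obtain ⟨M₀, hz0, hcov, hM0K, hM0max⟩ := exists_complement (resHom b A hKA) h.odd
    (fun m => Subtype.ext (hexp m m.2)) zA (fun e => hs.ne (congrArg Subtype.val e)) hfixA
  set A₀ : Subgroup E := M₀.map A.subtype with hA₀
  have hA₀A : A₀ ≤ A := Subgroup.map_subtype_le _
  have hzA₀ : z ∉ A₀ := by
    rintro ⟨m, hm, e⟩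
    exact hz0 (Subtype.ext (show (m : E) = (zA : E) from e) ▸ hm)
  have hcovA : ∀ x ∈ A, x ∈ A₀ ∨ x * z ∈ A₀ := fun x hx => (hcov ⟨x, hx⟩).imp
    (fun hm => ⟨⟨x, hx⟩, hm, rfl⟩) (fun hm => ⟨⟨x, hx⟩ * zA, hm, rfl⟩)
  have hA₀K : ∀ k, ∀ e ∈ A₀, b k e ∈ A₀ := by
    rintro k _ ⟨m, hm, rfl⟩
    exact ⟨_, hM0K k m hm, rfl⟩
  have hA₀1 : ∀ x ∈ A₀, x ∈ Subgroup.zpowers z → x = 1 := fun x hx hxz =>
    (hs.mem_zpowers.mp hxz).resolve_right fun e => hzA₀ (e ▸ hx)
  have hcardA : Nat.card A = 2 * Nat.card A₀ := by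
    have e1 : Nat.card A₀ = Nat.card M₀ := Subgroup.card_map_of_injective A.subtype_injective
    rw [e1, ← Subgroup.card_mul_index M₀, mul_comm]
    congr 1
    rw [Subgroup.index_eq_two_iff]
    exact ⟨zA, fun m => by
      rcases hcov m with hm | hm
      · exact Or.inr ⟨hm, fun hc => hz0 ((Subgroup.mul_mem_cancel_left M₀ hm).mp hc)⟩
      · refine Or.inl ⟨hm, fun hc => hz0 ((Subgroup.mul_mem_cancel_left M₀ hc).mp hm)⟩⟩
  refine ⟨hexp, A₀, hA₀A, hzA₀, hcovA, hcardA, hA₀K, fun D hDA hzD hDK x hx => ?_⟩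
  refine ⟨⟨x, hDA hx⟩, hM0max (D.subgroupOf A) (fun hm => hzD (Subgroup.mem_subgroupOf.mp hm))
    (fun k m hm => Subgroup.mem_subgroupOf.mpr (hDK k _ (Subgroup.mem_subgroupOf.mp hm))) ?_, rfl⟩
  exact Subgroup.mem_subgroupOf.mpr hx

/-- An automorphism normalising the operators carries complements to complements. -/
theorem complement_map (h : Hyp z a b) {A B A₀ B₀ : Subgroup E} (hA : A₀ ≤ A) (hzA₀ : z ∉ A₀)
    (hA₀K : ∀ k, ∀ e ∈ A₀, b k e ∈ A₀)
    (hB : ∀ D : Subgroup E, D ≤ B → z ∉ D → (∀ k, ∀ e ∈ D, b k e ∈ D) → D ≤ B₀)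
    (p : P) (hp : ∀ e ∈ A, a p e ∈ B) : ∀ e ∈ A₀, a p e ∈ B₀ := by
  intro e he
  refine hB (A₀.map (a p).toMonoidHom) ?_ ?_ ?_ ⟨e, he, rfl⟩
  · rintro _ ⟨x, hx, rfl⟩
    exact hp x (hA hx)
  · rintro ⟨x, hx, e'⟩
    refine hzA₀ ?_
    rwa [show x = z from (a p).injective (e'.trans (h.sym.map_z _).symm)] at hx
  · rintro k _ ⟨x, hx, rfl⟩
    obtain ⟨k', hk'⟩ := h.norm p⁻¹ k
    refine ⟨b k' x, hA₀K k' x hx, ?_⟩
    have h1 := hk' (a p x)
    rw [map_inv, MulAut.inv_apply_self] at h1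
    show a p (b k' x) = b k (a p x)
    rw [← h1, MulAut.apply_inv_self]

/-- The isotropic reduction. -/
theorem good_of_isotropic (h : Hyp z a b) (hb : Below.{u} (Nat.card E)) (A : Subgroup E) (hzA : z ∈ A)
    (hne : A ≠ Subgroup.zpowers z) (hAab : A ≤ Subgroup.centralizer (A : Set E))
    (hPA : ∀ p, ∀ e ∈ A, a p e ∈ A) (hKA : ∀ k, ∀ e ∈ A, b k e ∈ A) : Good z a := by
  classical
  have hs := h.sym
  have hcomm : ∀ x ∈ A, ∀ y ∈ A, x * y = y * x := fun x hx y hy =>
    (Subgroup.mem_centralizer_iff.mp (hAab hx) y hy).symm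
  obtain ⟨hexp, A₀, hA₀A, hzA₀, hcovA, hcardA, hA₀K, hmax⟩ := exists_inv_complement h A hzA hAab hKA
  have hA₀P : ∀ p, ∀ e ∈ A₀, a p e ∈ A₀ := fun p => complement_map h hA₀A hzA₀ hA₀K hmax p (hPA p)
  have hA₀1 : ∀ x ∈ A₀, x ∈ Subgroup.zpowers z → x = 1 := fun x hx hxz =>
    (hs.mem_zpowers.mp hxz).resolve_right fun e => hzA₀ (e ▸ hx)
  -- the section
  set C := Subgroup.centralizer (A : Set E) with hC
  have hzC : z ∈ C := Subgroup.mem_centralizer_iff.mpr fun x _ => (hs.central x).symm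
  have hA₀c : ∀ c ∈ C, ∀ x ∈ A₀, x * c = c * x := fun c hc x hx =>
    Subgroup.mem_centralizer_iff.mp hc x (hA₀A hx)
  haveI hN : (A₀.subgroupOf C).Normal := ⟨fun n hn c => by
    rw [Subgroup.mem_subgroupOf] at hn ⊢
    rw [Subgroup.coe_mul, Subgroup.coe_mul, ← hA₀c c c.2 n hn, InvMemClass.coe_inv,
      mul_inv_cancel_right]
    exact hn⟩
  set zC : C := ⟨z, hzC⟩
  set N₀ := A₀.subgroupOf C with hN₀
  have hPC := centralizer_stable a hPA
  have hKC := centralizer_stable b hKA
  have hPN : ∀ p, ∀ e ∈ N₀, resHom a C hPC p e ∈ N₀ := fun p e he =>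
    Subgroup.mem_subgroupOf.mpr (hA₀P p _ (Subgroup.mem_subgroupOf.mp he))
  have hKN : ∀ k, ∀ e ∈ N₀, resHom b C hKC k e ∈ N₀ := fun k e he =>
    Subgroup.mem_subgroupOf.mpr (hA₀K k _ (Subgroup.mem_subgroupOf.mp he))
  let a₁ := quotHom (resHom a C hPC) N₀ hPN
  let b₁ := quotHom (resHom b C hKC) N₀ hKN
  have hmk : ∀ x y : C, (x : C ⧸ N₀) = (y : C ⧸ N₀) ↔ (x : E)⁻¹ * y ∈ A₀ := fun x y => by
    rw [QuotientGroup.eq, hN₀, Subgroup.mem_subgroupOf]; rfl
  have hsym₁ : IsSympl (zC : C ⧸ N₀) := by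
    refine ⟨?_, ?_, ?_, ?_, ?_, ?_⟩
    · intro e
      rw [← QuotientGroup.mk_one, hmk, Subgroup.coe_one, mul_one] at e
      exact hzA₀ (by have := inv_mem e; rwa [inv_inv] at this)
    · rw [← QuotientGroup.mk_mul, show zC * zC = 1 from Subtype.ext hs.sq]; rfl
    · intro q
      induction q using QuotientGroup.induction_on with | _ x =>
      rw [← QuotientGroup.mk_mul, ← QuotientGroup.mk_mul,
        show zC * x = x * zC from Subtype.ext (hs.central x)]
    · intro q q'
      induction q using QuotientGroup.induction_on with | _ x =>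
      induction q' using QuotientGroup.induction_on with | _ y =>
      rcases hs.comm x y with e | e
      · left; rw [← QuotientGroup.mk_mul, ← QuotientGroup.mk_mul, show x * y = y * x from Subtype.ext e]
      · right
        rw [← QuotientGroup.mk_mul, ← QuotientGroup.mk_mul, ← QuotientGroup.mk_mul,
          show x * y = y * x * zC from Subtype.ext e]
    · intro q hq
      induction q using QuotientGroup.induction_on with | _ x =>
      have hxc : ∀ y ∈ C, (x : E) * y = y * x := by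
        intro y hy
        have h1 := hq ((⟨y, hy⟩ : C) : C ⧸ N₀)
        rw [← QuotientGroup.mk_mul, ← QuotientGroup.mk_mul, hmk] at h1
        refine (hs.comm x y).resolve_right fun e => ?_
        refine hs.ne (hA₀1 z ?_ (Subgroup.mem_zpowers _))
        simp only [Subgroup.coe_mul] at h1
        rw [e, mul_inv_rev, hs.inv_z, mul_assoc, inv_mul_cancel, mul_one] at h1
        exact h1
      have hxA : (x : E) ∈ A := by
        rw [← hs.centralizer_centralizer hzA, Subgroup.mem_centralizer_iff]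
        exact fun y hy => (hxc y hy).symm
      rcases hcovA x hxA with hx | hx
      · left
        rw [← QuotientGroup.mk_one, hmk, Subgroup.coe_one, mul_one]
        exact inv_mem hx
      · right
        rw [hmk]
        have := inv_mem hx
        rw [mul_inv_rev, hs.inv_z] at this
        rw [← hA₀A.trans hAab |> fun _ => hcomm z hzA _ (inv_mem hxA)]
        exact this
    · intro q
      induction q using QuotientGroup.induction_on with | _ x =>
      rcases hs.square x with e | e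
      · left; rw [← QuotientGroup.mk_mul, show x * x = 1 from Subtype.ext e]; rfl
      · right; rw [← QuotientGroup.mk_mul, show x * x = zC from Subtype.ext e]
  have hyp₁ : Hyp (zC : C ⧸ N₀) a₁ b₁ := by
    refine ⟨hsym₁, h.pP, h.odd, fun p k => ?_, fun q hq => ?_⟩
    · obtain ⟨k', hk'⟩ := h.norm p k
      refine ⟨k', fun q => ?_⟩
      induction q using QuotientGroup.induction_on with | _ x =>
      exact congrArg (fun t : C => (t : C ⧸ N₀)) (Subtype.ext (hk' x))
    · induction q using QuotientGroup.induction_on with | _ x =>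
      have hx : ∀ k, (x : E)⁻¹ * b k (x : E) ∈ A := by
        intro k
        have h1 := hq k
        simp only [b₁, quotHom_mk, ← QuotientGroup.mk_inv, ← QuotientGroup.mk_mul] at h1
        rcases hsym₁.mem_zpowers.mp h1 with e | e
        · rw [← QuotientGroup.mk_one, hmk, Subgroup.coe_one, mul_one] at e
          simpa using inv_mem (hA₀A e)
        · rw [hmk] at e
          have h2 : (x⁻¹ * resHom b C hKC k x : C).1⁻¹ * z ∈ A := hA₀A e
          have h3 := inv_mem (mul_mem h2 (inv_mem hzA))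
          simpa [mul_assoc] using h3
      obtain ⟨n, hn, hfix⟩ := exists_fixed_of_fixed_mod b h.odd A hcomm hexp hKA (x : E) hx
      have hxn := h.fpf _ fun k => by rw [hfix k, inv_mul_cancel]; exact one_mem _
      have hxA : (x : E) ∈ A := by
        have := mul_mem (hs.zpowers_le hzA hxn) (inv_mem hn)
        rwa [mul_inv_cancel_right] at this
      rcases hcovA x hxA with hx' | hx'
      · rw [show (x : C ⧸ N₀) = 1 by rw [← QuotientGroup.mk_one, hmk, Subgroup.coe_one, mul_one]; exact inv_mem hx']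
        exact one_mem _
      · rw [show (x : C ⧸ N₀) = (zC : C ⧸ N₀) by
          rw [hmk]
          have := inv_mem hx'
          rw [mul_inv_rev, hs.inv_z, hcomm z hzA _ (inv_mem hxA)] at this
          exact this]
        exact Subgroup.mem_zpowers _
  have hAc := hs.card_mul_card_centralizer hzA
  have h2A : 2 < Nat.card A := card_pos_two h hzA hne
  have hcardN : Nat.card N₀ = Nat.card A₀ :=
    Nat.card_congr (Subgroup.subgroupOfEquivOfLe (hA₀A.trans hAab)).toEquiv
  have hcardQ : Nat.card C = Nat.card (C ⧸ N₀) * Nat.card A₀ := by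
    rw [← hcardN]; exact Subgroup.card_eq_card_quotient_mul_card_subgroup N₀
  have hlt : Nat.card (C ⧸ N₀) < Nat.card E := by
    have h4 : Nat.card (C ⧸ N₀) ≤ Nat.card C :=
      Nat.card_le_card_of_surjective _ (QuotientGroup.mk_surjective)
    have h5 : 3 * Nat.card C ≤ Nat.card A * Nat.card C := Nat.mul_le_mul_right _ h2A
    have h6 : 0 < Nat.card E := Nat.card_pos
    rw [← hC] at hAc
    omega
  have hgood := hb _ _ P a₁ K b₁ hyp₁ hlt
  -- the normalisation
  intro V _ _ _ ρ hρ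
  let ρ₀ : Representation ℂ A₀ V := ρ.comp A₀.subtype
  set U := ρ₀.invariants with hU
  have hUdim : finrank ℂ U * Nat.card A₀ = finrank ℂ V := by
    haveI := Fintype.ofFinite A₀
    haveI : Invertible (Nat.card A₀ : ℂ) := invertibleOfNonzero (Nat.cast_ne_zero.mpr Nat.card_pos.ne')
    have h1 := Representation.card_inv_mul_sum_char_eq_finrank ρ₀
    rw [Finset.sum_eq_single (1 : A₀) (fun x _ hx => by
        show ρ.character (x : E) = 0
        refine trace_eq_zero hs hρ.neg (fun e => hx (Subtype.ext e)) fun e => hzA₀ (e ▸ x.2))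
      (fun hh => absurd (Finset.mem_univ _) hh), Representation.char_one,
      inv_mul_eq_iff_eq_mul₀ (Nat.cast_ne_zero.mpr Nat.card_pos.ne'), ← hU] at h1
    exact (Nat.cast_injective (R := ℂ) (by push_cast; rw [h1]; ring))
  have hUmem : ∀ v, v ∈ U ↔ ∀ x ∈ A₀, ρ x v = v := fun v =>
    ⟨fun hv x hx => hv ⟨x, hx⟩, fun hv x => hv x x.2⟩
  have hUC : ∀ c : C, ∀ v ∈ U, ρ c v ∈ U := fun c v hv => by
    rw [hUmem] at hv ⊢
    intro x hx
    rw [← Module.End.mul_apply, ← map_mul, hA₀c c c.2 x hx, map_mul, Module.End.mul_apply, hv x hx]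
  let ρC : Representation ℂ C U :=
    { toFun := fun c => (ρ c).restrict (hUC c)
      map_one' := LinearMap.ext fun v => Subtype.ext (by simp)
      map_mul' := fun c d => LinearMap.ext fun v => Subtype.ext (by simp) }
  have hker : N₀ ≤ MonoidHom.ker ρC := fun c hc => LinearMap.ext fun v =>
    Subtype.ext ((hUmem v).mp v.2 c (Subgroup.mem_subgroupOf.mp hc))
  let ρ₁ : Representation ℂ (C ⧸ N₀) U := QuotientGroup.lift N₀ ρC hker
  have hspin : IsSpin (zC : C ⧸ N₀) ρ₁ := by
    refine ⟨LinearMap.ext fun v => Subtype.ext ?_, ?_⟩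
    · show ρ z (v : V) = _
      rw [hρ.neg]; rfl
    · have hd := hρ.dim
      rw [← hUdim] at hd
      rw [← hC, hcardA, hcardQ, ← hd] at hAc
      have hp : 0 < Nat.card A₀ * Nat.card A₀ := Nat.mul_pos Nat.card_pos Nat.card_pos
      refine Nat.eq_of_mul_eq_mul_left (Nat.mul_pos two_pos hp) ?_
      zify at hAc ⊢
      linear_combination -1 * hAc
  obtain ⟨M₁, hM₁⟩ := hgood U ρ₁ hspin
  haveI := hspin.nontrivial
  obtain ⟨u₀, hu₀⟩ := exists_ne (0 : U)
  have hop : ∀ p, ∃ T : (Module.End ℂ V)ˣ, (∀ e, (T : Module.End ℂ V) * ρ e = ρ (a p e) * T) ∧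
      ∀ u : U, (T : Module.End ℂ V) (u : V) = ((M₁ p : Module.End ℂ U) u : V) := by
    intro p
    obtain ⟨T, hT⟩ := exists_op hs hρ (a p)
    have hTU : ∀ v ∈ U, (T : Module.End ℂ V) v ∈ U := fun v hv => by
      rw [hUmem] at hv ⊢
      intro x hx
      have hx' := hA₀P p⁻¹ x hx
      have h1 := congrArg (fun S : Module.End ℂ V => S v) (hT (a p⁻¹ x))
      simp only [Module.End.mul_apply] at h1
      rw [hv _ hx', ← MulAut.mul_apply, ← map_mul a, mul_inv_cancel, map_one, MulAut.one_apply] at h1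
      exact h1.symm
    let S : Module.End ℂ U := (T : Module.End ℂ V).restrict hTU
    obtain ⟨c, hc⟩ := eq_smul_one hsym₁ hspin (T := (↑(M₁ p)⁻¹ : Module.End ℂ U) * S) fun q => by
      induction q using QuotientGroup.induction_on with | _ x =>
      have h1 : S * ρ₁ (x : C ⧸ N₀) = ρ₁ (a₁ p (x : C ⧸ N₀)) * S := LinearMap.ext fun v => Subtype.ext
        (congrArg (fun S : Module.End ℂ V => S v) (hT (x : E)))
      have h2 : ρ₁ (x : C ⧸ N₀) * (↑(M₁ p)⁻¹ : Module.End ℂ U) =
          ↑(M₁ p)⁻¹ * ρ₁ (a₁ p (x : C ⧸ N₀)) := by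
        rw [Units.eq_inv_mul_iff_mul_eq, ← mul_assoc, hM₁, mul_assoc, Units.mul_inv, mul_one]
      rw [mul_assoc, h1, ← mul_assoc, ← h2, mul_assoc]
    rw [Units.inv_mul_eq_iff_eq_mul, mul_smul_comm, mul_one] at hc
    have hc0 : c ≠ 0 := by
      intro e
      rw [e, zero_smul] at hc
      have h1 : (T : Module.End ℂ V) (u₀ : V) = 0 :=
        congrArg Subtype.val (LinearMap.congr_fun hc u₀)
      have h2 := congrArg (↑T⁻¹ : Module.End ℂ V) h1
      rw [map_zero, ← Module.End.mul_apply, Units.inv_mul, Module.End.one_apply] at h2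
      exact hu₀ (Subtype.ext h2)
    refine ⟨⟨c⁻¹ • (T : Module.End ℂ V), c • (↑T⁻¹ : Module.End ℂ V), ?_, ?_⟩, fun e => ?_, fun u => ?_⟩
    · rw [smul_mul_smul_comm, inv_mul_cancel₀ hc0, one_smul, Units.mul_inv]
    · rw [smul_mul_smul_comm, mul_inv_cancel₀ hc0, one_smul, Units.inv_mul]
    · show c⁻¹ • (T : Module.End ℂ V) * ρ e = ρ (a p e) * (c⁻¹ • (T : Module.End ℂ V))
      rw [smul_mul_assoc, hT, mul_smul_comm]
    · show c⁻¹ • (T : Module.End ℂ V) (u : V) = _
      rw [show (T : Module.End ℂ V) (u : V) = c • ((M₁ p : Module.End ℂ U) u : V) from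
        congrArg Subtype.val (LinearMap.congr_fun hc u), smul_smul, inv_mul_cancel₀ hc0, one_smul]
  choose m hm hmU using hop
  have hv : (u₀ : V) ≠ 0 := fun e => hu₀ (Subtype.ext e)
  refine ⟨MonoidHom.mk' m fun p q => ?_, hm⟩
  refine op_eq hs hρ (hm (p * q)) (fun e => ?_) hv ?_
  · rw [Units.val_mul, mul_assoc, hm q, ← mul_assoc, hm p, mul_assoc, map_mul, MulAut.mul_apply]
  · rw [hmU, Units.val_mul, Module.End.mul_apply, hmU, hmU, map_mul, Units.val_mul, Module.End.mul_apply]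

/-- Two commuting pieces give the whole. -/
theorem good_of_product (hs : IsSympl z) {P : Type u} [Group P] {a : P →* MulAut E} (A B : Subgroup E)
    (hzA : z ∈ A) (hzB : z ∈ B) (hAB : A ⊓ B ≤ Subgroup.zpowers z)
    (hcomm : ∀ x ∈ A, ∀ y ∈ B, x * y = y * x) (hgen : ∀ e, ∃ x ∈ A, ∃ y ∈ B, e = x * y)
    {VA VB : Type} [AddCommGroup VA] [Module ℂ VA] [FiniteDimensional ℂ VA]
    [AddCommGroup VB] [Module ℂ VB] [FiniteDimensional ℂ VB]
    {ρA : Representation ℂ A VA} {ρB : Representation ℂ B VB}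
    (hA : IsSpin (⟨z, hzA⟩ : A) ρA) (hB : IsSpin (⟨z, hzB⟩ : B) ρB)
    (MP : P →* (Module.End ℂ (VA ⊗[ℂ] VB))ˣ)
    (hMA : ∀ p, ∀ x : A, ∃ x' : A × B, (x'.1 : E) * x'.2 = a p x ∧
      (MP p : Module.End ℂ (VA ⊗[ℂ] VB)) * TensorProduct.map (ρA x) LinearMap.id =
        TensorProduct.map (ρA x'.1) (ρB x'.2) * (MP p : Module.End ℂ (VA ⊗[ℂ] VB)))
    (hMB : ∀ p, ∀ y : B, ∃ x' : A × B, (x'.1 : E) * x'.2 = a p y ∧
      (MP p : Module.End ℂ (VA ⊗[ℂ] VB)) * TensorProduct.map LinearMap.id (ρB y) =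
        TensorProduct.map (ρA x'.1) (ρB x'.2) * (MP p : Module.End ℂ (VA ⊗[ℂ] VB))) :
    Good z a := by
  classical
  let π : A × B →* E :=
    { toFun := fun x => (x.1 : E) * x.2
      map_one' := by simp
      map_mul' := fun x y => by
        show (x.1 : E) * y.1 * ((x.2 : E) * y.2) = x.1 * x.2 * (y.1 * y.2)
        calc (x.1 : E) * y.1 * ((x.2 : E) * y.2) = x.1 * ((y.1 : E) * x.2) * y.2 := by group
          _ = x.1 * ((x.2 : E) * y.1) * y.2 := by rw [hcomm _ y.1.2 _ x.2.2]
          _ = x.1 * x.2 * (y.1 * y.2) := by group }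
  have hπ : Function.Surjective π := fun e => by
    obtain ⟨x, hx, y, hy, rfl⟩ := hgen e
    exact ⟨(⟨x, hx⟩, ⟨y, hy⟩), rfl⟩
  let R : Representation ℂ (A × B) (VA ⊗[ℂ] VB) :=
    { toFun := fun x => TensorProduct.map (ρA x.1) (ρB x.2)
      map_one' := by simp [TensorProduct.map_id, Module.End.one_eq_id]
      map_mul' := fun x y => by
        rw [Prod.fst_mul, Prod.snd_mul, map_mul, map_mul]
        exact TensorProduct.map_mul _ _ _ _ }
  have hker' : ∀ x : A × B, π x = 1 → x = 1 ∨ x = (⟨z, hzA⟩, ⟨z, hzB⟩) := by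
    rintro ⟨⟨x, hx⟩, ⟨y, hy⟩⟩ (e : x * y = 1)
    have hxy : x = y⁻¹ := eq_inv_of_mul_eq_one_left e
    have hxB : x ∈ B := hxy ▸ inv_mem hy
    rcases hs.mem_zpowers.mp (hAB ⟨hx, hxB⟩) with e1 | e1
    · rw [e1, one_mul] at e
      exact Or.inl (Prod.ext (Subtype.ext e1) (Subtype.ext e))
    · rw [e1] at e
      have : y = z := by rw [← mul_right_inj z, e, hs.sq]
      exact Or.inr (Prod.ext (Subtype.ext e1) (Subtype.ext this))
  have hker : π.ker ≤ MonoidHom.ker R := by
    intro x hx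
    rcases hker' x (MonoidHom.mem_ker.mp hx) with rfl | rfl
    · exact one_mem _
    · refine TensorProduct.ext' fun v w => ?_
      show (ρA ⟨z, hzA⟩ v) ⊗ₜ[ℂ] (ρB ⟨z, hzB⟩ w) = v ⊗ₜ[ℂ] w
      rw [hA.neg, hB.neg, LinearMap.neg_apply, LinearMap.neg_apply, TensorProduct.neg_tmul,
        TensorProduct.tmul_neg, neg_neg]
      rfl
  let ρ : Representation ℂ E (VA ⊗[ℂ] VB) :=
    (QuotientGroup.lift π.ker R hker).comp
      (QuotientGroup.quotientKerEquivOfSurjective π hπ).symm.toMonoidHom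
  have hρπ : ∀ x, ρ (π x) = R x := fun x => by
    show QuotientGroup.lift π.ker R hker ((QuotientGroup.quotientKerEquivOfSurjective π hπ).symm (π x)) = _
    rw [show (QuotientGroup.quotientKerEquivOfSurjective π hπ).symm (π x) =
      ((x : A × B) : (A × B) ⧸ π.ker) from MulEquiv.symm_apply_apply _ (x : (A × B) ⧸ π.ker)]
    rfl
  have hspin : IsSpin z ρ := by
    refine ⟨?_, ?_⟩
    · rw [show z = π (⟨z, hzA⟩, 1) by simp [π], hρπ]
      refine TensorProduct.ext' fun v w => ?_
      show (ρA ⟨z, hzA⟩ v) ⊗ₜ[ℂ] (ρB 1 w) = -(v ⊗ₜ[ℂ] w)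
      rw [hA.neg, map_one, LinearMap.neg_apply, TensorProduct.neg_tmul]
      rfl
    · have h1 := Subgroup.card_eq_card_quotient_mul_card_subgroup π.ker
      rw [Nat.card_congr (QuotientGroup.quotientKerEquivOfSurjective π hπ).toEquiv, Nat.card_prod,
        ← hA.dim, ← hB.dim] at h1
      have hk : π.ker = Subgroup.zpowers ((⟨z, hzA⟩, ⟨z, hzB⟩) : A × B) := by
        refine le_antisymm (fun x hx => ?_) (Subgroup.zpowers_le.mpr (show z * z = 1 from hs.sq))
        rcases hker' x (MonoidHom.mem_ker.mp hx) with rfl | rfl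
        · exact one_mem _
        · exact Subgroup.mem_zpowers _
      have hc2 : Nat.card π.ker = 2 := by
        rw [hk, Nat.card_zpowers]
        refine orderOf_eq_prime (p := 2) ?_ fun e => hs.ne ?_
        · rw [pow_two]; exact Prod.ext (Subtype.ext hs.sq) (Subtype.ext hs.sq)
        · exact congrArg (fun x : A × B => (x.1 : E)) e
      rw [hc2] at h1
      rw [Module.finrank_tensorProduct]
      linarith
  refine good_of_exists hs hspin MP fun p e => ?_
  obtain ⟨⟨x, y⟩, rfl⟩ := hπ e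
  obtain ⟨x', hx', hMx⟩ := hMA p x
  obtain ⟨y', hy', hMy⟩ := hMB p y
  have e1 : a p (π (x, y)) = π (x' * y') := by
    rw [map_mul π]
    show a p ((x : E) * y) = ((x'.1 : E) * x'.2) * ((y'.1 : E) * y'.2)
    rw [hx', hy', map_mul]
  rw [e1, hρπ, hρπ, map_mul]
  have e2 : R (x, y) = TensorProduct.map (ρA x) LinearMap.id * TensorProduct.map LinearMap.id (ρB y) := by
    show TensorProduct.map (ρA x) (ρB y) = _
    rw [← TensorProduct.map_mul]
    rfl
  rw [e2, ← mul_assoc, hMx, mul_assoc, hMy, ← mul_assoc]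
  rfl

/-- The restriction of the hypothesis to a stable non-degenerate subgroup. -/
theorem hyp_restrict (h : Hyp z a b) (A : Subgroup E) (hzA : z ∈ A)
    (hnd : A ⊓ Subgroup.centralizer (A : Set E) = Subgroup.zpowers z)
    {P' : Type u} [Group P'] (f : P' →* P) (hP' : IsPGroup 2 P')
    (hPA : ∀ p, ∀ e ∈ A, a (f p) e ∈ A) (hKA : ∀ k, ∀ e ∈ A, b k e ∈ A) :
    Hyp (⟨z, hzA⟩ : A) (resHom (a.comp f) A hPA) (resHom b A hKA) := by
  have hs := h.sym
  refine ⟨⟨fun e => hs.ne (congrArg Subtype.val e), Subtype.ext hs.sq, fun x => Subtype.ext (hs.central x),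
    fun x y => ?_, fun x hx => ?_, fun x => ?_⟩, hP', h.odd, fun p k => ?_, fun e he => ?_⟩
  · exact (hs.comm x y).imp Subtype.ext Subtype.ext
  · have : (x : E) ∈ Subgroup.zpowers z := hnd ▸ Subgroup.mem_inf.mpr ⟨x.2,
      Subgroup.mem_centralizer_iff.mpr fun y hy => (congrArg Subtype.val (hx ⟨y, hy⟩)).symm⟩
    exact (hs.mem_zpowers.mp this).imp Subtype.ext Subtype.ext
  · exact (hs.square x).imp Subtype.ext Subtype.ext
  · obtain ⟨k', hk'⟩ := h.norm (f p) k
    exact ⟨k', fun e => Subtype.ext (hk' e)⟩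
  · have h1 := h.fpf (e : E) fun k => by
      obtain ⟨n, hn⟩ := he k
      exact ⟨n, (congrArg Subtype.val hn : _)⟩
    obtain ⟨n, hn⟩ := h1
    exact ⟨n, Subtype.ext (by simpa using hn)⟩

/-- The orthogonal reduction. -/
theorem good_of_orthogonal (h : Hyp z a b) (hb : Below.{u} (Nat.card E)) (A : Subgroup E) (hzA : z ∈ A)
    (hne : A ≠ Subgroup.zpowers z) (hne' : A ≠ ⊤)
    (hnd : A ⊓ Subgroup.centralizer (A : Set E) = Subgroup.zpowers z)
    (hPA : ∀ p, ∀ e ∈ A, a p e ∈ A) (hKA : ∀ k, ∀ e ∈ A, b k e ∈ A) : Good z a := by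
  have hs := h.sym
  set B := Subgroup.centralizer (A : Set E) with hB
  have hzB : z ∈ B := Subgroup.mem_centralizer_iff.mpr fun x _ => (hs.central x).symm
  have hndB : B ⊓ Subgroup.centralizer (B : Set E) = Subgroup.zpowers z := by
    rw [hs.centralizer_centralizer hzA, inf_comm, hnd]
  have hPB := centralizer_stable a hPA
  have hKB := centralizer_stable b hKA
  have hA1 : Nat.card A < Nat.card E := lt_of_le_of_ne (Subgroup.card_le_card_group A)
    fun e => hne' (Subgroup.eq_top_of_card_eq A e)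
  have hB1 : Nat.card B < Nat.card E := by
    have h1 := hs.card_mul_card_centralizer hzA
    have h2A : 2 < Nat.card A := card_pos_two h hzA hne
    have h5 : 3 * Nat.card B ≤ Nat.card A * Nat.card B := Nat.mul_le_mul_right _ h2A
    have h6 : 0 < Nat.card E := Nat.card_pos
    rw [← hB] at h1
    omega
  have hypA := hyp_restrict h A hzA hnd (MonoidHom.id P) h.pP hPA hKA
  have hypB := hyp_restrict h B hzB hndB (MonoidHom.id P) h.pP hPB hKB
  obtain ⟨nA, ρA, hA⟩ := exists_isSpin hypA.sym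
  obtain ⟨nB, ρB, hB'⟩ := exists_isSpin hypB.sym
  obtain ⟨MA, hMA⟩ := hb A _ P _ K _ hypA hA1 _ ρA hA
  obtain ⟨MB, hMB⟩ := hb B _ P _ K _ hypB hB1 _ ρB hB'
  let MP : P →* (Module.End ℂ ((Fin nA → ℂ) ⊗[ℂ] (Fin nB → ℂ)))ˣ :=
    MonoidHom.toHomUnits
      { toFun := fun p => TensorProduct.map (MA p : Module.End ℂ (Fin nA → ℂ)) (MB p : Module.End ℂ (Fin nB → ℂ))
        map_one' := by simp [TensorProduct.map_id, Module.End.one_eq_id]
        map_mul' := fun p q => by
          rw [map_mul, map_mul, Units.val_mul, Units.val_mul]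
          exact TensorProduct.map_mul _ _ _ _ }
  refine good_of_product hs A B hzA hzB hnd.le
    (fun x hx y hy => Subgroup.mem_centralizer_iff.mp hy x hx)
    (hs.sup_centralizer_eq_top hzA hnd) hA hB' MP (fun p x => ?_) (fun p y => ?_)
  · refine ⟨(resHom (a.comp (MonoidHom.id P)) A hPA p x, 1), ?_, ?_⟩
    · simp
    · show TensorProduct.map _ _ * TensorProduct.map _ _ = TensorProduct.map _ _ * TensorProduct.map _ _
      rw [← TensorProduct.map_mul, ← TensorProduct.map_mul, hMA, map_one, one_mul]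
      rfl
  · refine ⟨(1, resHom (a.comp (MonoidHom.id P)) B hPB p y), ?_, ?_⟩
    · simp
    · show TensorProduct.map _ _ * TensorProduct.map _ _ = TensorProduct.map _ _ * TensorProduct.map _ _
      rw [← TensorProduct.map_mul, ← TensorProduct.map_mul, hMB, map_one, one_mul]
      rfl

/-- A proper stable subgroup splits the problem. -/
theorem good_of_invariant (h : Hyp z a b) (hb : Below.{u} (Nat.card E)) (A : Subgroup E) (hzA : z ∈ A)
    (hne : A ≠ Subgroup.zpowers z) (hne' : A ≠ ⊤)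
    (hPA : ∀ p, ∀ e ∈ A, a p e ∈ A) (hKA : ∀ k, ∀ e ∈ A, b k e ∈ A) : Good z a := by
  have hs := h.sym
  set R := A ⊓ Subgroup.centralizer (A : Set E) with hR
  have hzR : z ∈ R := ⟨hzA, Subgroup.mem_centralizer_iff.mpr fun x _ => (hs.central x).symm⟩
  by_cases hr : R = Subgroup.zpowers z
  · exact good_of_orthogonal h hb A hzA hne hne' hr hPA hKA
  · exact good_of_isotropic h hb R hzR hr
      (fun x hx => Subgroup.mem_centralizer_iff.mpr fun y hy =>
        Subgroup.mem_centralizer_iff.mp hx.2 y hy.1)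
      (fun p e he => ⟨hPA p e he.1, centralizer_stable a hPA p e he.2⟩)
      (fun k e he => ⟨hKA k e he.1, centralizer_stable b hKA k e he.2⟩)

end CfsgLib.SpinExt
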