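import Cfsg.Agent.Lib.LocalEven.SpinExt.Basic
import Cfsg.Agent.Lib.Char.Complete
import Cfsg.Agent.Lib.Char.Extension
import Mathlib.RepresentationTheory.Character

/-!
The representation of a symplectic type 2-group with `z ↦ -1`, of degree `√(|E|/2)`.
-/

set_option autoImplicit false
set_option linter.all false

namespace CfsgLib.SpinExt

open Module
open scoped ComplexConjugate

universe u

variable {E : Type u} [Group E] [Finite E] {z : E}

/-- `z` acts as `-1` and the degree is the least possible. -/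
structure IsSpin (z : E) {V : Type} [AddCommGroup V] [Module ℂ V]
    (ρ : Representation ℂ E V) : Prop where
  neg : ρ z = -1
  dim : finrank ℂ V * finrank ℂ V * 2 = Nat.card E

theorem IsSympl.map_z (h : IsSympl z) (φ : MulAut E) : φ z = z := by
  rcases h.nondeg (φ z) (fun y => by
    obtain ⟨x, rfl⟩ := φ.surjective y
    rw [← map_mul, ← map_mul, h.central]) with e | e
  · exact absurd ((map_eq_one_iff φ φ.injective).mp e) h.ne
  · exact e

theorem trace_eq_zero (h : IsSympl z) {V : Type} [AddCommGroup V] [Module ℂ V] [FiniteDimensional ℂ V]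
    {ρ : Representation ℂ E V} (hneg : ρ z = -1) {x : E} (hx : x ≠ 1) (hxz : x ≠ z) :
    ρ.character x = 0 := by
  obtain ⟨y, hy⟩ : ∃ y, x * y ≠ y * x := by
    by_contra hc
    push Not at hc
    rcases h.nondeg x hc with e | e
    · exact hx e
    · exact hxz e
  have e1 : ρ.character (y * x * y⁻¹) = ρ.character x := Representation.char_conj ρ _ _
  rw [h.conj_ne hy] at e1
  have e2 : ρ.character (x * z) = - ρ.character x := by
    simp only [Representation.character, map_mul, hneg, mul_neg, mul_one, map_neg]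
  rw [e2] at e1
  linear_combination (-(1 : ℂ) / 2) * e1

theorem sum_norm_character (h : IsSympl z) [Fintype E] {V : Type} [AddCommGroup V] [Module ℂ V]
    [FiniteDimensional ℂ V] {ρ : Representation ℂ E V} (hneg : ρ z = -1) :
    ∑ x, ρ.character x * conj (ρ.character x) = 2 * (finrank ℂ V : ℂ) ^ 2 := by
  classical
  have h1 : ρ.character 1 = (finrank ℂ V : ℂ) := Representation.char_one ρ
  have hz : ρ.character z = -(finrank ℂ V : ℂ) := by
    simp only [Representation.character, hneg, map_neg, LinearMap.trace_one]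
  rw [← Finset.sum_subset (Finset.subset_univ {1, z}) (fun x _ hx => by
    simp only [Finset.mem_insert, Finset.mem_singleton, not_or] at hx
    rw [trace_eq_zero h hneg hx.1 hx.2, zero_mul]),
    Finset.sum_pair h.ne.symm, h1, hz]
  simp only [map_neg, Complex.conj_natCast]
  ring

/-- An irreducible representation with `z ↦ -1` has the least degree. -/
theorem isSpin_of_irreducible (h : IsSympl z) {V : Type} [AddCommGroup V] [Module ℂ V]
    [FiniteDimensional ℂ V] (ρ : Representation ℂ E V) [ρ.IsIrreducible] (hz : ρ z ≠ 1) :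
    IsSpin z ρ := by
  classical
  haveI := Fintype.ofFinite E
  have hneg : ρ z = -1 := by
    let S : Subrepresentation ρ :=
      ⟨LinearMap.ker (ρ z - 1), fun x v hv => by
        rw [LinearMap.mem_ker, LinearMap.sub_apply, Module.End.one_apply, sub_eq_zero] at hv ⊢
        have : ρ z (ρ x v) = ρ x (ρ z v) := by
          rw [← Module.End.mul_apply, ← map_mul, h.central, map_mul, Module.End.mul_apply]
        rw [this, hv]⟩
    rcases IsSimpleOrder.eq_bot_or_eq_top S with h1 | h1
    · ext v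
      have hm : v + ρ z v ∈ S.toSubmodule := by
        show v + ρ z v ∈ LinearMap.ker (ρ z - 1)
        rw [LinearMap.mem_ker, LinearMap.sub_apply, Module.End.one_apply, map_add, ← Module.End.mul_apply,
          ← map_mul, h.sq, map_one, Module.End.one_apply]
        abel
      rw [h1] at hm
      have : v + ρ z v = 0 := (Submodule.mem_bot ℂ).mp hm
      rw [LinearMap.neg_apply, Module.End.one_apply]
      exact eq_neg_of_add_eq_zero_right this
    · refine absurd ?_ hz
      ext v
      have hm : v ∈ S.toSubmodule := by rw [h1]; trivial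
      change v ∈ LinearMap.ker (ρ z - 1) at hm
      rw [LinearMap.mem_ker, LinearMap.sub_apply, sub_eq_zero] at hm
      exact hm
  refine ⟨hneg, ?_⟩
  have h1 := CfsgLib.Char.classInner_rep ρ ρ
  rw [if_pos ⟨Representation.Equiv.refl ρ⟩, Cfsg.classInner, sum_norm_character h hneg,
    inv_mul_eq_iff_eq_mul₀ (Nat.cast_ne_zero.mpr Nat.card_pos.ne'), mul_one] at h1
  exact Nat.cast_injective (R := ℂ) (by push_cast; linear_combination h1)

theorem exists_isSpin (h : IsSympl z) : ∃ (n : ℕ) (ρ : Representation ℂ E (Fin n → ℂ)), IsSpin z ρ := by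
  classical
  haveI := Fintype.ofFinite E
  haveI := Fintype.ofFinite (Cfsg.IrrCharacter E)
  by_contra hc
  push Not at hc
  have h0 := CfsgLib.Char.column_orthogonality z (1 : E)
  rw [if_neg (fun e => h.ne (isConj_one_left.mp e))] at h0
  have hall : ∀ χ : Cfsg.IrrCharacter E, (χ : E → ℂ) z = (χ : E → ℂ) 1 := by
    intro χ
    obtain ⟨n, ρ, hρ, e⟩ := χ.2
    by_cases hz : ρ z = 1
    · rw [← e, Representation.character, hz, Representation.char_one, LinearMap.trace_one]
    · exact absurd (isSpin_of_irreducible h ρ hz) (hc n ρ)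
  rw [Finset.sum_congr rfl fun χ _ => by rw [hall χ]] at h0
  have h1 := CfsgLib.Char.column_orthogonality (1 : E) (1 : E)
  rw [if_pos (IsConj.refl _), h0] at h1
  exact Nat.card_pos.ne' (Nat.cast_eq_zero.mp h1.symm)

variable {V : Type} [AddCommGroup V] [Module ℂ V] [FiniteDimensional ℂ V] {ρ : Representation ℂ E V}

theorem IsSpin.finrank_pos (hρ : IsSpin z ρ) : 0 < finrank ℂ V := by
  by_contra h0
  have h1 := hρ.dim
  rw [Nat.eq_zero_of_not_pos h0] at h1
  simp only [mul_zero, zero_mul] at h1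
  exact Nat.card_pos.ne' h1.symm

theorem IsSpin.nontrivial (hρ : IsSpin z ρ) : Nontrivial V :=
  Module.nontrivial_of_finrank_pos hρ.finrank_pos

theorem card_quotient (h : IsSympl z) (hρ : IsSpin z ρ) :
    Nat.card (E ⧸ Subgroup.zpowers z) = finrank ℂ V * finrank ℂ V := by
  have h1 := Subgroup.card_eq_card_quotient_mul_card_subgroup (Subgroup.zpowers z)
  rw [h.card_zpowers, ← hρ.dim] at h1
  exact (Nat.eq_of_mul_eq_mul_right two_pos h1).symm

theorem trace_out (h : IsSympl z) (hρ : IsSpin z ρ) [DecidableEq (E ⧸ Subgroup.zpowers z)]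
    (q q' : E ⧸ Subgroup.zpowers z) :
    ρ.character (q.out⁻¹ * q'.out) = if q' = q then (finrank ℂ V : ℂ) else 0 := by
  split_ifs with hq
  · rw [hq, inv_mul_cancel, Representation.char_one]
  · have hm : q.out⁻¹ * q'.out ∉ Subgroup.zpowers z := fun hm => hq (by
      have := QuotientGroup.eq.mpr hm
      rwa [QuotientGroup.out_eq', QuotientGroup.out_eq', eq_comm] at this)
    rw [h.mem_zpowers, not_or] at hm
    exact trace_eq_zero h hρ.neg hm.1 hm.2

theorem linearIndependent_out (h : IsSympl z) (hρ : IsSpin z ρ) :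
    LinearIndependent ℂ (fun q : E ⧸ Subgroup.zpowers z => ρ q.out) := by
  classical
  haveI := Fintype.ofFinite (E ⧸ Subgroup.zpowers z)
  rw [Fintype.linearIndependent_iff]
  intro c hc q
  have h1 := congrArg (fun T => LinearMap.trace ℂ V (ρ q.out⁻¹ * T)) hc
  simp only [Finset.mul_sum, mul_smul_comm, map_sum, map_smul, mul_zero, map_zero, smul_eq_mul] at h1
  have h2 : ∀ i : E ⧸ Subgroup.zpowers z, LinearMap.trace ℂ V (ρ q.out⁻¹ * ρ i.out) =
      if i = q then (finrank ℂ V : ℂ) else 0 := fun i => by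
    rw [← map_mul]
    exact trace_out h hρ q i
  rw [Finset.sum_congr rfl fun i _ => congrArg (c i * ·) (h2 i)] at h1
  simp only [mul_ite, mul_zero, Finset.sum_ite_eq', Finset.mem_univ, if_true] at h1
  exact (mul_eq_zero.mp h1).resolve_right (Nat.cast_ne_zero.mpr hρ.finrank_pos.ne')

theorem span_out (h : IsSympl z) (hρ : IsSpin z ρ) :
    Submodule.span ℂ (Set.range fun q : E ⧸ Subgroup.zpowers z => ρ q.out) = ⊤ := by
  classical
  haveI := Fintype.ofFinite (E ⧸ Subgroup.zpowers z)
  haveI : Nonempty (E ⧸ Subgroup.zpowers z) := ⟨((1 : E) : E ⧸ Subgroup.zpowers z)⟩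
  refine (linearIndependent_out h hρ).span_eq_top_of_card_eq_finrank ?_
  rw [Module.finrank_linearMap, ← card_quotient h hρ, Nat.card_eq_fintype_card]

theorem commute_all (h : IsSympl z) (hρ : IsSpin z ρ) {T : Module.End ℂ V}
    (hT : ∀ e, T * ρ e = ρ e * T) (S : Module.End ℂ V) : T * S = S * T := by
  have hS : S ∈ Submodule.span ℂ (Set.range fun q : E ⧸ Subgroup.zpowers z => ρ q.out) := by
    rw [span_out h hρ]; trivial
  induction hS using Submodule.span_induction with
  | mem S hS => obtain ⟨q, rfl⟩ := hS; exact hT _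
  | zero => rw [mul_zero, zero_mul]
  | add x y _ _ hx hy => rw [mul_add, add_mul, hx, hy]
  | smul c x _ hx => rw [mul_smul_comm, smul_mul_assoc, hx]

theorem eq_smul_one (h : IsSympl z) (hρ : IsSpin z ρ) {T : Module.End ℂ V}
    (hT : ∀ e, T * ρ e = ρ e * T) : ∃ c : ℂ, T = c • 1 := by
  haveI := hρ.nontrivial
  obtain ⟨v, hv⟩ := exists_ne (0 : V)
  obtain ⟨f, hf⟩ := Module.Projective.exists_dual_ne_zero ℂ hv
  refine ⟨(f v)⁻¹ * f (T v), LinearMap.ext fun w => ?_⟩
  have h1 := congrArg (fun S : Module.End ℂ V => S v) (commute_all h hρ hT (f.smulRight w))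
  simp only [Module.End.mul_apply, LinearMap.smulRight_apply, map_smul] at h1
  rw [LinearMap.smul_apply, Module.End.one_apply, mul_smul, ← h1, smul_smul,
    inv_mul_cancel₀ hf, one_smul]

/-- An invariant subspace is trivial. -/
theorem invariant_eq_bot_or_top (h : IsSympl z) (hρ : IsSpin z ρ) (U : Submodule ℂ V)
    (hU : ∀ e, ∀ v ∈ U, ρ e v ∈ U) : U = ⊥ ∨ U = ⊤ := by
  by_cases h0 : U = ⊥
  · exact Or.inl h0
  refine Or.inr (eq_top_iff.mpr fun w _ => ?_)
  obtain ⟨v, hvU, hv⟩ := Submodule.exists_mem_ne_zero_of_ne_bot h0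
  obtain ⟨f, hf⟩ := Module.Projective.exists_dual_ne_zero ℂ hv
  have hall : ∀ S : Module.End ℂ V, S v ∈ U := by
    intro S
    have hS : S ∈ Submodule.span ℂ (Set.range fun q : E ⧸ Subgroup.zpowers z => ρ q.out) := by
      rw [span_out h hρ]; trivial
    induction hS using Submodule.span_induction with
    | mem S hS => obtain ⟨q, rfl⟩ := hS; exact hU _ v hvU
    | zero => exact U.zero_mem
    | add x y _ _ hx hy => exact U.add_mem hx hy
    | smul c x _ hx => exact U.smul_mem c hx
  have := U.smul_mem (f v)⁻¹ (hall (f.smulRight w))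
  rwa [LinearMap.smulRight_apply, smul_smul, inv_mul_cancel₀ hf, one_smul] at this

variable {V' : Type} [AddCommGroup V'] [Module ℂ V'] [FiniteDimensional ℂ V']
  {ρ' : Representation ℂ E V'}

/-- Two spin representations are equivalent. -/
theorem exists_intertwiner (h : IsSympl z) (hρ : IsSpin z ρ) (hρ' : IsSpin z ρ') :
    ∃ T : V ≃ₗ[ℂ] V', ∀ e v, T (ρ e v) = ρ' e (T v) := by
  classical
  haveI := Fintype.ofFinite E
  let avg : (V →ₗ[ℂ] V') → (V →ₗ[ℂ] V') := fun A => ∑ e : E, ρ' e ∘ₗ A ∘ₗ ρ e⁻¹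
  have havg : ∀ A e v, avg A (ρ e v) = ρ' e (avg A v) := by
    intro A e v
    simp only [avg, LinearMap.sum_apply, LinearMap.comp_apply, map_sum]
    refine (Fintype.sum_equiv (Equiv.mulLeft e) _ _ fun x => ?_).symm
    rw [Equiv.coe_mulLeft, ← Module.End.mul_apply (ρ' e), ← map_mul,
      ← Module.End.mul_apply (ρ (e * x)⁻¹), ← map_mul]
    congr 3
    group
  obtain ⟨A, hA⟩ : ∃ A, avg A ≠ 0 := by
    by_contra hc
    push Not at hc
    haveI := hρ.nontrivial
    haveI := hρ'.nontrivial
    obtain ⟨v₀, hv₀⟩ := exists_ne (0 : V)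
    obtain ⟨f, hf⟩ := Module.Projective.exists_dual_ne_zero ℂ hv₀
    let g : E → Module.End ℂ V' := fun e => f (ρ e⁻¹ v₀) • ρ' e
    have hs : ∑ e, g e = 0 := LinearMap.ext fun w => by
      have h2 := congrArg (fun L : V →ₗ[ℂ] V' => L v₀) (hc (f.smulRight w))
      simp only [avg, LinearMap.sum_apply, LinearMap.comp_apply, LinearMap.smulRight_apply, map_smul,
        LinearMap.zero_apply] at h2
      simpa [g, LinearMap.sum_apply] using h2
    have h3 : LinearMap.trace ℂ V' (∑ e, g e) = 0 := by rw [hs, map_zero]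
    rw [map_sum, ← Finset.sum_subset (Finset.subset_univ {1, z}) (fun x _ hx => by
      simp only [Finset.mem_insert, Finset.mem_singleton, not_or] at hx
      show LinearMap.trace ℂ V' (f (ρ x⁻¹ v₀) • ρ' x) = 0
      rw [map_smul]
      show f (ρ x⁻¹ v₀) • ρ'.character x = 0
      rw [trace_eq_zero h hρ'.neg hx.1 hx.2, smul_zero]),
      Finset.sum_pair h.ne.symm] at h3
    simp only [g, inv_one, map_one, h.inv_z, hρ.neg, hρ'.neg, Module.End.one_apply, LinearMap.neg_apply,
      map_neg, map_smul, LinearMap.trace_one, smul_eq_mul] at h3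
    exact mul_ne_zero hf (Nat.cast_ne_zero.mpr hρ'.finrank_pos.ne')
      (by linear_combination ((1 : ℂ) / 2) * h3)
  have hinj : Function.Injective (avg A) := by
    rw [← LinearMap.ker_eq_bot]
    refine (invariant_eq_bot_or_top h hρ _ fun e v hv => ?_).resolve_right fun ht =>
      hA (LinearMap.ker_eq_top.mp ht)
    rw [LinearMap.mem_ker] at hv ⊢
    rw [havg, hv, map_zero]
  have hfr : finrank ℂ V = finrank ℂ V' := by
    have h1 := hρ.dim
    rw [← hρ'.dim] at h1
    exact Nat.mul_self_inj.mp (Nat.eq_of_mul_eq_mul_right two_pos h1)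
  exact ⟨LinearEquiv.ofInjectiveOfFinrankEq (avg A) hinj hfr, fun e v => by
    exact havg A e v⟩

theorem isSpin_comp (h : IsSympl z) (hρ : IsSpin z ρ) (φ : MulAut E) :
    IsSpin z (ρ.comp φ.toMonoidHom) :=
  ⟨by show ρ (φ z) = -1; rw [h.map_z, hρ.neg], hρ.dim⟩

/-- Every automorphism is realised on the spin module. -/
theorem exists_op (h : IsSympl z) (hρ : IsSpin z ρ) (φ : MulAut E) :
    ∃ T : (Module.End ℂ V)ˣ, ∀ e, (T : Module.End ℂ V) * ρ e = ρ (φ e) * T := by
  obtain ⟨T, hT⟩ := exists_intertwiner h hρ (isSpin_comp h hρ φ)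
  refine ⟨⟨T.toLinearMap, T.symm.toLinearMap, LinearMap.ext fun v => T.apply_symm_apply v,
    LinearMap.ext fun v => T.symm_apply_apply v⟩, fun e => LinearMap.ext fun v => hT e v⟩

theorem op_unique (h : IsSympl z) (hρ : IsSpin z ρ) {φ : MulAut E} {S T : (Module.End ℂ V)ˣ}
    (hS : ∀ e, (S : Module.End ℂ V) * ρ e = ρ (φ e) * S)
    (hT : ∀ e, (T : Module.End ℂ V) * ρ e = ρ (φ e) * T) :
    ∃ c : ℂ, c ≠ 0 ∧ (S : Module.End ℂ V) = c • (T : Module.End ℂ V) := by
  have hT' : ∀ e, ρ e * (↑T⁻¹ : Module.End ℂ V) = ↑T⁻¹ * ρ (φ e) := fun e => by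
    rw [Units.eq_inv_mul_iff_mul_eq, ← mul_assoc, hT, mul_assoc, Units.mul_inv, mul_one]
  obtain ⟨c, hc⟩ := eq_smul_one h hρ (T := (↑T⁻¹ : Module.End ℂ V) * S) fun e => by
    rw [mul_assoc, hS, ← mul_assoc, ← hT', mul_assoc]
  have e : (S : Module.End ℂ V) = c • (T : Module.End ℂ V) := by
    rw [Units.inv_mul_eq_iff_eq_mul] at hc
    rw [hc, mul_smul_comm, mul_one]
  haveI := hρ.nontrivial
  exact ⟨c, fun h0 => S.ne_zero (by rw [e, h0, zero_smul]), e⟩

/-- Two realisations of the same automorphism agreeing on a nonzero vector are equal. -/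
theorem op_eq (h : IsSympl z) (hρ : IsSpin z ρ) {φ : MulAut E} {S T : (Module.End ℂ V)ˣ}
    (hS : ∀ e, (S : Module.End ℂ V) * ρ e = ρ (φ e) * S)
    (hT : ∀ e, (T : Module.End ℂ V) * ρ e = ρ (φ e) * T)
    {v : V} (hv : v ≠ 0) (hagree : (S : Module.End ℂ V) v = (T : Module.End ℂ V) v) : S = T := by
  obtain ⟨c, -, hc⟩ := op_unique h hρ hS hT
  have h1 : c • (T : Module.End ℂ V) v = (1 : ℂ) • (T : Module.End ℂ V) v := by
    rw [one_smul, ← LinearMap.smul_apply, ← hc, hagree]
  have hne : (T : Module.End ℂ V) v ≠ 0 := fun h0 => hv <| by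
    have := congrArg (↑T⁻¹ : Module.End ℂ V) h0
    rwa [map_zero, ← Module.End.mul_apply, Units.inv_mul, Module.End.one_apply] at this
  refine Units.ext ?_
  rw [hc, smul_left_injective ℂ hne h1, one_smul]

/-- The action of `P` on `E` is realised by a representation of `P` on every spin module. -/
def Good (z : E) {P : Type*} [Group P] (a : P →* MulAut E) : Prop :=
  ∀ (V : Type) [AddCommGroup V] [Module ℂ V] [FiniteDimensional ℂ V] (ρ : Representation ℂ E V),
    IsSpin z ρ → ∃ M : P →* (Module.End ℂ V)ˣ,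
      ∀ p e, (M p : Module.End ℂ V) * ρ e = ρ (a p e) * M p

theorem good_of_exists (h : IsSympl z) {P : Type*} [Group P] {a : P →* MulAut E}
    (hρ : IsSpin z ρ) (M : P →* (Module.End ℂ V)ˣ)
    (hM : ∀ p e, (M p : Module.End ℂ V) * ρ e = ρ (a p e) * M p) : Good z a := by
  intro W _ _ _ σ hσ
  obtain ⟨T, hT⟩ := exists_intertwiner h hρ hσ
  let cj : Module.End ℂ V →* Module.End ℂ W :=
    { toFun := fun S => T.conj S
      map_one' := LinearEquiv.conj_id T
      map_mul' := fun S S' => LinearEquiv.conj_comp T S' S }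
  refine ⟨(Units.map cj).comp M, fun p e => LinearMap.ext fun w => ?_⟩
  show T.conj (M p : Module.End ℂ V) (σ e w) = σ (a p e) (T.conj (M p : Module.End ℂ V) w)
  simp only [LinearEquiv.conj_apply_apply]
  obtain ⟨v, rfl⟩ := T.surjective w
  rw [← hT, T.symm_apply_apply, T.symm_apply_apply, ← hT]
  exact congrArg T (congrArg (fun S : Module.End ℂ V => S v) (hM p e))

end CfsgLib.SpinExt
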